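import Mathlib.RingTheory.FiniteType
import Mathlib.Algebra.Module.LinearMap.End

/-!
# Cancelling a module with local endomorphism ring
-/

set_option autoImplicit false
set_option linter.unusedSectionVars false

universe u

namespace Groth.Agent.GrLib8.CanonExt

section Split

variable {A : Type*} [CommRing A] {M P Q : Type*} [AddCommGroup M] [Module A M] [AddCommGroup P] [Module A P]
  [AddCommGroup Q] [Module A Q]

/-- A splitting as a product. -/
def splitEquiv (i : P →ₗ[A] M) (p : M →ₗ[A] P) (ι : Q →ₗ[A] M) (π : M →ₗ[A] Q) (hpi : p ∘ₗ i = LinearMap.id)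
    (hπι : π ∘ₗ ι = LinearMap.id) (hpι : p ∘ₗ ι = 0) (hπi : π ∘ₗ i = 0) (hsum : i ∘ₗ p + ι ∘ₗ π = LinearMap.id) :
    M ≃ₗ[A] P × Q :=
  LinearEquiv.ofLinearMap (p.prod π) (i.coprod ι)
    (LinearMap.prod_ext (LinearMap.ext fun x => by
        simpa using And.intro (LinearMap.congr_fun hpi x) (LinearMap.congr_fun hπi x))
      (LinearMap.ext fun x => by
        simpa using And.intro (LinearMap.congr_fun hpι x) (LinearMap.congr_fun hπι x)))
    (LinearMap.ext fun x => by simpa using LinearMap.congr_fun hsum x)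

end Split

variable {A : Type*} [CommRing A] {P M N : Type*} [AddCommGroup P] [Module A P] [Module.Finite A P]
  [AddCommGroup M] [Module A M] [AddCommGroup N] [Module A N]

theorem nonempty_equiv_of_bijective_fst (η : (P × M) ≃ₗ[A] P × N)
    (ha : Function.Bijective (LinearMap.fst A P N ∘ₗ η.toLinearMap ∘ₗ LinearMap.inl A P M)) :
    Nonempty (M ≃ₗ[A] N) := by
  let a := LinearEquiv.ofBijective _ ha
  have hax : ∀ x, a x = (η (x, 0)).1 := fun x => rfl
  let c : P →ₗ[A] N := LinearMap.snd A P N ∘ₗ η.toLinearMap ∘ₗ LinearMap.inl A P M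
  let F : M →ₗ[A] N := LinearMap.snd A P N ∘ₗ η.toLinearMap ∘ₗ LinearMap.inr A P M -
    c ∘ₗ a.symm.toLinearMap ∘ₗ LinearMap.fst A P N ∘ₗ η.toLinearMap ∘ₗ LinearMap.inr A P M
  let G : N →ₗ[A] M := LinearMap.snd A P M ∘ₗ η.symm.toLinearMap ∘ₗ LinearMap.inr A P N
  have hη : ∀ x y, η (x, y) = (a x + (η (0, y)).1, c x + (η (0, y)).2) := fun x y => by
    have : η (x, y) = η (x, 0) + η (0, y) := by rw [← map_add]; simp
    rw [this]
    rfl
  have hF : ∀ y, F y = (η (0, y)).2 - c (a.symm (η (0, y)).1) := fun y => rfl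
  have h0 : ∀ y, η (-a.symm (η (0, y)).1, y) = (0, F y) := fun y => by
    rw [hη, map_neg, map_neg, a.apply_symm_apply, neg_add_cancel, hF, ← sub_eq_neg_add]
  refine ⟨LinearEquiv.ofLinearMap F G (LinearMap.ext fun z => ?_) (LinearMap.ext fun y => ?_)⟩
  · have hz := η.apply_symm_apply (0, z)
    rw [show η.symm (0, z) = ((η.symm (0, z)).1, G z) from rfl, hη, Prod.mk.injEq] at hz
    show F (G z) = z
    refine Eq.trans ?_ hz.2
    rw [hF]
    have hx : (η.symm (0, z)).1 = -a.symm (η (0, G z)).1 := by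
      apply a.injective
      rw [map_neg, a.apply_symm_apply]
      exact eq_neg_of_add_eq_zero_left hz.1
    rw [hx, map_neg, ← sub_eq_neg_add]
  · show G (F y) = y
    show (η.symm (0, F y)).2 = y
    rw [← h0 y, η.symm_apply_apply]

/-- A module with local endomorphism ring cancels. -/
theorem nonempty_equiv_of_prod (hloc : ∀ x : P →ₗ[A] P, Function.Bijective x ∨
    Function.Bijective (LinearMap.id - x : P →ₗ[A] P)) (η : (P × M) ≃ₗ[A] P × N) : Nonempty (M ≃ₗ[A] N) := by
  let a : P →ₗ[A] P := LinearMap.fst A P N ∘ₗ η.toLinearMap ∘ₗ LinearMap.inl A P M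
  let c : P →ₗ[A] N := LinearMap.snd A P N ∘ₗ η.toLinearMap ∘ₗ LinearMap.inl A P M
  let a' : P →ₗ[A] P := LinearMap.fst A P M ∘ₗ η.symm.toLinearMap ∘ₗ LinearMap.inl A P N
  let b' : N →ₗ[A] P := LinearMap.fst A P M ∘ₗ η.symm.toLinearMap ∘ₗ LinearMap.inr A P N
  by_cases ha : Function.Bijective a
  · exact nonempty_equiv_of_bijective_fst η ha
  have hu : Function.Bijective (b' ∘ₗ c) := by
    have h1 : (b' ∘ₗ c : P →ₗ[A] P) = LinearMap.id - a' ∘ₗ a := LinearMap.ext fun x => by
      have h := congrArg Prod.fst (η.symm_apply_apply (x, (0 : M)))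
      have hs : η.symm (η (x, 0)) = η.symm ((η (x, 0)).1, 0) + η.symm (0, (η (x, 0)).2) := by
        rw [← map_add]; simp
      rw [hs] at h
      rw [LinearMap.sub_apply, eq_sub_iff_add_eq, add_comm]
      exact h
    rw [h1]
    refine (hloc (a' ∘ₗ a)).resolve_left fun h => ha ?_
    have h' : Function.Bijective a' :=
      ⟨OrzechProperty.injective_of_surjective_endomorphism a' fun y => by
        obtain ⟨x, hx⟩ := h.2 y
        exact ⟨a x, hx⟩, fun y => by
        obtain ⟨x, hx⟩ := h.2 y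
        exact ⟨a x, hx⟩⟩
    exact (Function.Bijective.of_comp_iff' h' a).1 h
  have hau : Function.Bijective (a + b' ∘ₗ c : P →ₗ[A] P) := by
    let u := LinearEquiv.ofBijective _ hu
    let y : P →ₗ[A] P := u.symm.toLinearMap ∘ₗ (-a)
    have hy : Function.Bijective (LinearMap.id - y : P →ₗ[A] P) := (hloc y).resolve_left fun h => ha (by
      have h1 : (a : P → P) = fun x => -(u (y x)) := funext fun x => by
        show a x = -(u (u.symm (-(a x))))
        rw [u.apply_symm_apply, neg_neg]
      rw [h1]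
      exact ((Equiv.neg P).bijective.comp u.bijective).comp h)
    have h2 : ((a + b' ∘ₗ c : P →ₗ[A] P) : P → P) = u ∘ (LinearMap.id - y : P →ₗ[A] P) := funext fun x => by
      show a x + u x = u (x - u.symm (-(a x)))
      rw [map_sub, u.apply_symm_apply, sub_neg_eq_add, add_comm]
    rw [h2]
    exact u.bijective.comp hy
  let τ : (P × N) ≃ₗ[A] P × N :=
    LinearEquiv.ofLinearMap ((LinearMap.fst A P N + b' ∘ₗ LinearMap.snd A P N).prod (LinearMap.snd A P N))
      ((LinearMap.fst A P N - b' ∘ₗ LinearMap.snd A P N).prod (LinearMap.snd A P N))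
      (LinearMap.ext fun z => by simp) (LinearMap.ext fun z => by simp)
  exact nonempty_equiv_of_bijective_fst (η.trans τ) hau

end Groth.Agent.GrLib8.CanonExt
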