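import Groth.Agent.LC.CanonCM
import Groth.Agent.LC.CanonUnique
import Groth.Agent.LC.MatlisExtra
import Groth.Agent.LC.CohAcyclic

/-!
# Canonical modules of finite local algebras over Cohen–Macaulay local rings
-/

set_option autoImplicit false
set_option linter.style.haveILetI false
set_option linter.overlappingInstances false

universe u

open CategoryTheory Limits IsLocalRing Opposite

namespace Groth.Agent.GrLib8.CanonExt

section Coextend

variable {A B : Type u} [CommRing A] [CommRing B] [Algebra A B] {E : Type u} [AddCommGroup E] [Module A E]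

set_option quotPrecheck false in
local notation "TT" => (ModuleCat.coextendScalars (algebraMap A B)).obj (ModuleCat.of A E)

/-- Evaluation. -/
noncomputable def evT (F : TT) (b : B) : E :=
  ModuleCat.CoextendScalars.equiv (algebraMap A B) (ModuleCat.of A E) F b

theorem evT_ext {F G : TT} (h : ∀ b : B, evT F b = evT G b) : F = G :=
  ModuleCat.CoextendScalars.ext (LinearMap.ext h)

theorem evT_smul (c : B) (F : TT) (b : B) : evT (c • F) b = evT F (b * c) :=
  ModuleCat.CoextendScalars.smul_apply (algebraMap A B) (ModuleCat.of A E) F c b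

theorem evT_add (F G : TT) (b : B) : evT (F + G) b = evT F b + evT G b := by
  simp only [evT, map_add]
  rfl

theorem evT_algebraMap (F : TT) (a : A) (b : B) : evT F (algebraMap A B a * b) = a • evT F b :=
  LinearMap.map_smul (ModuleCat.CoextendScalars.equiv (algebraMap A B) (ModuleCat.of A E) F) a
    (b : (ModuleCat.restrictScalars (algebraMap A B)).obj (ModuleCat.of B B))

/-- Construct an element of the coinduced module. -/
noncomputable def mkT (h : B →+ E) (hh : ∀ (a : A) (b : B), h (algebraMap A B a * b) = a • h b) : TT :=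
  (ModuleCat.CoextendScalars.equiv (algebraMap A B) (ModuleCat.of A E)).symm
    { toFun := fun b : B => h b
      map_add' := fun x y : B => map_add h x y
      map_smul' := fun a (b : B) => hh a b }

theorem evT_mkT (h : B →+ E) (hh : ∀ (a : A) (b : B), h (algebraMap A B a * b) = a • h b) (b : B) :
    evT (mkT h hh) b = h b := rfl

end Coextend

variable (A B : Type u) [CommRing A] [CommRing B] [IsLocalRing B] [Algebra A B] [IsLocalRing A] [Module.Finite A B]

theorem radical_map_maximalIdeal [IsNoetherianRing A] :
    ((maximalIdeal A).map (algebraMap A B)).radical = (maximalIdeal B).radical := by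
  obtain ⟨l, hl⟩ := LC.exists_pow_le_map_maximalIdeal (A := A) (B := B)
  haveI : Algebra.IsIntegral A B := Algebra.IsIntegral.of_finite A B
  have hcomap : (maximalIdeal B).comap (algebraMap A B) = maximalIdeal A :=
    eq_maximalIdeal (Ideal.isMaximal_comap_of_isIntegral_of_isMaximal (R := A) (maximalIdeal B))
  refine le_antisymm (Ideal.radical_mono (Ideal.map_le_iff_le_comap.2 hcomap.ge)) ?_
  rw [Ideal.IsPrime.radical inferInstance]
  exact fun b hb => ⟨l, hl (Ideal.pow_mem_pow hb l)⟩

variable [LocCoh.IsCohenMacaulayLocalRing A] [IsNoetherianRing B]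

/-- `K_B = Ext^(dim A - dim B)(B, K_A)`. -/
theorem nonempty_canon_equiv_ext {n : ℕ} (hn : ringKrullDim A = n)
    {E : Type u} [AddCommGroup E] [Module A E] {f : ResidueField A →ₗ[A] E} (hf : InjHull.IsInjectiveHull f)
    (K : Type u) [AddCommGroup K] [Module A K] [Module.Finite A K]
    (eK : (K →ₗ[A] E) ≃ₗ[A] (localCohomology (maximalIdeal A) n).obj (ModuleCat.of A A))
    (K' : Type u) [AddCommGroup K'] [Module B K'] [Module A K'] [IsScalarTower A B K'] [Module.Finite B K']
    {E' : Type u} [AddCommGroup E'] [Module B E'] {g : ResidueField B →ₗ[B] E'} (hg : InjHull.IsInjectiveHull g)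
    {n' : ℕ} (hn' : n' ≤ n)
    (eK' : (K' →ₗ[B] E') ≃ₗ[B] (localCohomology (maximalIdeal B) n').obj (ModuleCat.of B B)) :
    Nonempty (K' ≃ₗ[A] Abelian.Ext (ModuleCat.of A B) (ModuleCat.of A K) (n - n')) := by
  haveI : Module.Finite A K' := Module.Finite.trans B K'
  obtain ⟨g₀, hg₀⟩ := LC.coextend_hull (A := A) (B := B) hf
  obtain ⟨eH, -⟩ := LC.hull_unique hg₀ hg
  let T := (ModuleCat.coextendScalars (algebraMap A B)).obj (ModuleCat.of A E)
  let Ψ : (K' →ₗ[A] E) ≃+ (K' →ₗ[B] T) :=
    { toFun := fun ψ =>
        { toFun := fun k => mkT (ψ.toAddMonoidHom.comp (AddMonoidHom.mk' (fun b : B => b • k) fun x y => add_smul x y k))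
            fun a b => by
              show ψ ((algebraMap A B a * b) • k) = a • ψ (b • k)
              rw [mul_smul, algebraMap_smul, map_smul]
          map_add' := fun k k' => evT_ext fun b => by
            rw [evT_add, evT_mkT, evT_mkT, evT_mkT]
            show ψ (b • (k + k')) = ψ (b • k) + ψ (b • k')
            rw [smul_add, map_add]
          map_smul' := fun c k => evT_ext fun b => by
            rw [RingHom.id_apply, evT_smul, evT_mkT, evT_mkT]
            show ψ (b • c • k) = ψ ((b * c) • k)
            rw [smul_smul] }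
      invFun := fun F =>
        { toFun := fun k => evT (F k) 1
          map_add' := fun k k' => by rw [map_add, evT_add]
          map_smul' := fun a k => by
            rw [RingHom.id_apply, ← algebraMap_smul B a k, map_smul, evT_smul, one_mul, ← evT_algebraMap, mul_one] }
      left_inv := fun ψ => LinearMap.ext fun k => congrArg ψ (one_smul B k)
      right_inv := fun F => LinearMap.ext fun k => evT_ext fun b => by
        show evT (F (b • k)) 1 = _
        rw [map_smul, evT_smul, one_mul]
      map_add' := fun ψ ψ' => LinearMap.ext fun k => evT_ext fun b => by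
        rw [LinearMap.add_apply, evT_add]
        rfl }
  have hΨ : ∀ (a : A) (ψ : K' →ₗ[A] E), Ψ (a • ψ) = algebraMap A B a • Ψ ψ := fun a ψ =>
    LinearMap.ext fun k => evT_ext fun b => by
      rw [LinearMap.smul_apply, evT_smul]
      show a • ψ (b • k) = ψ ((b * algebraMap A B a) • k)
      rw [mul_comm, mul_smul, algebraMap_smul, map_smul ψ a]
  let θ₁ : (K' →ₗ[B] T) ≃ₗ[B] (localCohomology ((maximalIdeal A).map (algebraMap A B)) n').obj (ModuleCat.of B B) :=
    (eH.congrRight.trans eK').trans
      ((localCohomology.isoOfSameRadical (radical_map_maximalIdeal A B).symm n').app (ModuleCat.of B B)).toLinearEquiv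
  obtain ⟨φ, hφ⟩ := LC.exists_indep (maximalIdeal A) (R' := B) n' B
  let Φ : (K' →ₗ[A] E) ≃ₗ[A] (localCohomology (maximalIdeal A) n').obj (ModuleCat.of A B) :=
    { (Ψ.trans θ₁.toAddEquiv).trans φ with
      map_smul' := fun a ψ => by
        show φ (θ₁ (Ψ (a • ψ))) = a • φ (θ₁ (Ψ ψ))
        rw [hΨ, map_smul, hφ] }
  obtain ⟨D⟩ := LC.Canon.exists_dualExt hn hf eK B (n - n') n' (by omega)
  exact LC.Canon.nonempty_linearEquiv_of_dualEquiv hf (D.symm.trans Φ.symm)

end Groth.Agent.GrLib8.CanonExt
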