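import Groth.Agent.GrLib8.CanonUniq
import Groth.Agent.GrLib8.DegMap
import Groth.Agent.GrLib8.PosGr

/-!
# Endomorphisms of indecomposable graded modules
-/

set_option autoImplicit false
set_option linter.unusedSectionVars false
set_option linter.style.haveILetI false

universe u

open DirectSum

namespace Groth.Agent.GrLib8.CanonExt

variable {R : Type u} [CommRing R] [IsNoetherianRing R] {𝒜 : ℤ → AddSubgroup R} [GradedRing 𝒜]
variable (hpos : ∀ n : ℤ, n < 0 → 𝒜 n = ⊥)
variable {P : GrLC.GMod.{u} 𝒜} [Module.Finite R P.carrier]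

/-- No nontrivial decomposition into homogeneous submodules. -/
def Indec (P : GrLC.GMod.{u} 𝒜) : Prop :=
  Nontrivial P.carrier ∧ ∀ K L : Submodule R P.carrier, K.IsHomogeneous P.gr → L.IsHomogeneous P.gr →
    IsCompl K L → K = ⊥ ∨ L = ⊥

/-- Homogeneous endomorphisms which are not bijective. -/
def Degw (P : GrLC.GMod.{u} 𝒜) : Set (P.carrier →ₗ[R] P.carrier) :=
  {f | ∃ d, GrLC.IsGrHomDeg P.gr P.gr f d ∧ ¬ Function.Bijective f}

theorem isGrHomDeg_symm {M N : GrLC.GMod.{u} 𝒜} (e : M.carrier ≃ₗ[R] N.carrier) {d d' : ℤ} (hd : d' = -d)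
    (he : GrLC.IsGrHomDeg M.gr N.gr e.toLinearMap d) : GrLC.IsGrHomDeg N.gr M.gr e.symm.toLinearMap d' := by
  subst hd
  intro g y hy
  obtain ⟨x, hx, hxy⟩ := exists_preimage_mem e.toLinearMap he hy ⟨e.symm y, e.apply_symm_apply y⟩
  rw [LinearEquiv.coe_coe, show e.symm y = x from e.injective (by rw [e.apply_symm_apply]; exact hxy.symm), ← sub_eq_add_neg]
  exact hx

theorem comp_left {f : P.carrier →ₗ[R] P.carrier} (hf : f ∈ Degw P) (h : P.carrier →ₗ[R] P.carrier) {e : ℤ}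
    (he : GrLC.IsGrHomDeg P.gr P.gr h e) : h ∘ₗ f ∈ Degw P := by
  obtain ⟨d, hd, hnb⟩ := hf
  refine ⟨_, isGrHomDeg_comp hd he rfl, fun hb => hnb ?_⟩
  have hs : Function.Surjective h := fun y => by
    obtain ⟨x, hx⟩ := hb.2 y
    exact ⟨f x, hx⟩
  exact (Function.Bijective.of_comp_iff' ⟨OrzechProperty.injective_of_surjective_endomorphism h hs, hs⟩ f).1 hb

theorem comp_right {f : P.carrier →ₗ[R] P.carrier} (hf : f ∈ Degw P) (h : P.carrier →ₗ[R] P.carrier) {e : ℤ}
    (he : GrLC.IsGrHomDeg P.gr P.gr h e) : f ∘ₗ h ∈ Degw P := by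
  obtain ⟨d, hd, hnb⟩ := hf
  refine ⟨_, isGrHomDeg_comp he hd rfl, fun hb => hnb ?_⟩
  have hs : Function.Surjective f := fun y => by
    obtain ⟨x, hx⟩ := hb.2 y
    exact ⟨h x, hx⟩
  exact ⟨OrzechProperty.injective_of_surjective_endomorphism f hs, hs⟩

include hpos in
theorem exists_lowest [Nontrivial P.carrier] :
    ∃ (j : ℤ) (x : P.carrier), x ∈ P.gr j ∧ x ≠ 0 ∧ ∀ i < j, ∀ y ∈ P.gr i, y = 0 := by
  classical
  obtain ⟨K, t, e, ht, htop⟩ := exists_homogeneous_generators P.gr (R := R)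
  let S : Set ℤ := {g | ∃ x ∈ P.gr g, x ≠ 0}
  have hne : S.Nonempty := by
    obtain ⟨x, hx⟩ := exists_ne (0 : P.carrier)
    by_contra h
    apply hx
    rw [← sum_support_decompose P.gr x]
    refine Finset.sum_eq_zero fun g _ => ?_
    by_contra hg
    exact h ⟨g, _, SetLike.coe_mem _, hg⟩
  have hbdd : ∀ g ∈ S, -(∑ j, |e j|) ≤ g := by
    rintro g ⟨x, hx, hx0⟩
    by_contra hg
    obtain ⟨c, hc⟩ := (Submodule.mem_span_range_iff_exists_fun R).1 (htop ▸ Submodule.mem_top : x ∈ _)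
    apply hx0
    rw [mem_of_sum_smul 𝒜 P.gr ht hx c hc]
    refine Finset.sum_eq_zero fun j _ => ?_
    have h1 : g - e j < 0 := by
      have h2 : |e j| ≤ ∑ i, |e i| :=
        Finset.single_le_sum (f := fun j => |e j|) (fun i _ => abs_nonneg (e i)) (Finset.mem_univ j)
      have h3 := neg_abs_le (e j)
      omega
    have h2 : (decompose 𝒜 (c j) (g - e j) : R) = 0 :=
      AddSubgroup.mem_bot.1 (hpos _ h1 ▸ SetLike.coe_mem (decompose 𝒜 (c j) (g - e j)))
    rw [h2, zero_smul]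
  obtain ⟨j, ⟨x, hx, hx0⟩, hle⟩ := Int.exists_least_of_bdd (P := (· ∈ S)) ⟨_, hbdd⟩ hne
  refine ⟨j, x, hx, hx0, fun i hi y hy => ?_⟩
  by_contra h
  have := hle i ⟨y, hy, h⟩
  omega

include hpos in
theorem not_bijective_of_deg_ne [Nontrivial P.carrier] {f : P.carrier →ₗ[R] P.carrier} {d : ℤ}
    (hf : GrLC.IsGrHomDeg P.gr P.gr f d) (hd : d ≠ 0) : ¬ Function.Bijective f := by
  intro hb
  obtain ⟨j, x, hx, hx0, hlow⟩ := exists_lowest hpos (P := P)
  rcases lt_or_gt_of_ne hd with h | h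
  · exact hx0 (hb.1 (((hlow _ (by omega) _ (hf j x hx)).trans (map_zero f).symm)))
  · obtain ⟨y, hy, hyx⟩ := exists_preimage_mem f hf hx (hb.2 x)
    rw [hlow _ (by omega) y hy, map_zero] at hyx
    exact hx0 hyx.symm

include hpos in
/-- Fitting's lemma in degree zero. -/
theorem isNilpotent_of_deg_zero (hF : IsField (GrLC.deg0 𝒜)) (hP : Indec P)
    {f : Module.End R P.carrier} (hf : GrLC.IsGrHomDeg P.gr P.gr f 0) (hnb : ¬ Function.Bijective f) :
    IsNilpotent f := by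
  classical
  obtain ⟨N, hN, hN1⟩ :=
    (f.eventually_disjoint_ker_pow_range_pow.and (Filter.eventually_ge_atTop 1)).exists
  have hpow : ∀ k, GrLC.IsGrHom P.gr P.gr (f ^ k) := by
    intro k
    induction k with
    | zero => exact fun g x hx => hx
    | succ k ih =>
      intro g x hx
      rw [pow_succ', Module.End.mul_apply]
      simpa using hf g _ (ih g x hx)
  have hcompl : IsCompl (LinearMap.ker (f ^ N)) (LinearMap.range (f ^ N)) := by
    refine ⟨hN, codisjoint_iff.2 (eq_top_iff.2 fun x _ => ?_)⟩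
    rw [← sum_support_decompose P.gr x]
    refine Submodule.sum_mem _ fun g _ => ?_
    generalize hy : ((decompose P.gr x g : P.gr g) : P.carrier) = y
    have hyg : y ∈ P.gr g := hy ▸ SetLike.coe_mem _
    letI := hF.toField
    haveI := finite_comp 𝒜 (fun n hn r hr => AddSubgroup.mem_bot.1 (hpos n hn ▸ hr)) P.gr g
    let φ : GrLC.comp 𝒜 P.gr g →ₗ[GrLC.deg0 𝒜] GrLC.comp 𝒜 P.gr g :=
      { toFun := fun z => ⟨(f ^ N) (z : P.carrier), hpow N g _ z.2⟩
        map_add' := fun a b => Subtype.ext (map_add _ _ _)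
        map_smul' := fun a b => Subtype.ext (map_smul (f ^ N) (a : R) (b : P.carrier)) }
    have hdisj : Disjoint (LinearMap.ker φ) (LinearMap.range φ) := by
      rw [Submodule.disjoint_def]
      rintro z hz ⟨w, hw⟩
      exact Subtype.ext (Submodule.disjoint_def.1 hN (z : P.carrier)
        (LinearMap.mem_ker.2 (congrArg Subtype.val (LinearMap.mem_ker.1 hz))) ⟨w, congrArg Subtype.val hw⟩)
    have htop := Submodule.eq_top_of_disjoint _ _
      (by rw [add_comm, LinearMap.finrank_range_add_finrank_ker φ]) hdisj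
    obtain ⟨a, ha, b, ⟨c, hc⟩, hab⟩ := Submodule.mem_sup.1 (htop ▸ Submodule.mem_top : (⟨y, hyg⟩ : GrLC.comp 𝒜 P.gr g) ∈ _)
    exact Submodule.mem_sup.2 ⟨a, LinearMap.mem_ker.2 (congrArg Subtype.val (LinearMap.mem_ker.1 ha)), b,
      ⟨c, congrArg Subtype.val hc⟩, congrArg Subtype.val hab⟩
  rcases hP.2 _ _ (isHomogeneous_ker_deg (isGrHomDeg_zero_iff.2 (hpow N))) (isHomogeneous_range _ _ (hpow N))
    hcompl with h | h
  · exfalso
    have hb : Function.Bijective (f ^ N) := by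
      refine ⟨LinearMap.ker_eq_bot.1 h, LinearMap.range_eq_top.1 ?_⟩
      simpa [h] using hcompl.sup_eq_top
    refine hnb ?_
    have hs : Function.Surjective f := fun y => by
      obtain ⟨x, hx⟩ := hb.2 y
      refine ⟨(f ^ (N - 1)) x, ?_⟩
      rw [← Module.End.mul_apply, ← pow_succ', Nat.sub_add_cancel hN1, hx]
    exact ⟨OrzechProperty.injective_of_surjective_endomorphism f hs, hs⟩
  · exact ⟨N, LinearMap.range_eq_bot.1 h⟩

/-- The inverse of a degree zero automorphism. -/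
theorem exists_inv {f : P.carrier →ₗ[R] P.carrier} (hf : GrLC.IsGrHomDeg P.gr P.gr f 0) (hb : Function.Bijective f) :
    ∃ g : P.carrier →ₗ[R] P.carrier, GrLC.IsGrHomDeg P.gr P.gr g 0 ∧ Function.Bijective g ∧
      g ∘ₗ f = LinearMap.id ∧ f ∘ₗ g = LinearMap.id :=
  let e := LinearEquiv.ofBijective f hb
  ⟨e.symm.toLinearMap, isGrHomDeg_symm e (neg_zero).symm hf, e.symm.bijective,
    LinearMap.ext fun x => e.symm_apply_apply x, LinearMap.ext fun x => e.apply_symm_apply x⟩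

include hpos in
theorem not_bijective_sum (hF : IsField (GrLC.deg0 𝒜)) (hP : Indec P) {a b : P.carrier →ₗ[R] P.carrier}
    (ha : GrLC.IsGrHomDeg P.gr P.gr a 0) (hb : GrLC.IsGrHomDeg P.gr P.gr b 0) (ha' : ¬ Function.Bijective a)
    (hb' : ¬ Function.Bijective b) : ¬ Function.Bijective (a + b : P.carrier →ₗ[R] P.carrier) := by
  intro hu
  obtain ⟨v, hv, hvb, hvu, -⟩ := exists_inv (isGrHomDeg_add ha hb) hu
  have hnil : IsNilpotent (v ∘ₗ a : Module.End R P.carrier) :=
    isNilpotent_of_deg_zero hpos hF hP (isGrHomDeg_comp ha hv (add_zero 0))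
      fun h => ha' ((Function.Bijective.of_comp_iff' hvb a).1 h)
  have h1 : (v ∘ₗ b : Module.End R P.carrier) = 1 - (v ∘ₗ a : Module.End R P.carrier) := by
    rw [eq_sub_iff_add_eq, add_comm, ← LinearMap.comp_add, hvu]
    rfl
  have h2 := (Module.End.isUnit_iff _).1 (h1 ▸ hnil.isUnit_one_sub)
  exact hb' ((Function.Bijective.of_comp_iff' hvb b).1 h2)

/-- A stable homogeneous submodule. -/
def IsStable (P : GrLC.GMod.{u} 𝒜) (Z : Submodule R P.carrier) : Prop :=
  Z.IsHomogeneous P.gr ∧ ∀ (h : P.carrier →ₗ[R] P.carrier) (d : ℤ), GrLC.IsGrHomDeg P.gr P.gr h d → ∀ z ∈ Z, h z ∈ Z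

theorem isHomogeneous_span {s : Set P.carrier} (hs : ∀ x ∈ s, ∃ g, x ∈ P.gr g) :
    (Submodule.span R s).IsHomogeneous P.gr := by
  classical
  intro j y hy
  suffices ∀ r : R, (decompose P.gr (r • y) j : P.carrier) ∈ Submodule.span R s by simpa using this 1
  induction hy using Submodule.span_induction with
  | mem x hx =>
    intro r
    obtain ⟨g, hg⟩ := hs x hx
    rw [decompose_smul_of_mem 𝒜 P.gr hg r j]
    exact Submodule.smul_mem _ _ (Submodule.subset_span hx)
  | zero => intro r; simp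
  | add a b _ _ ha hb => intro r; rw [smul_add, decompose_add, DirectSum.add_apply, AddMemClass.coe_add]; exact add_mem (ha r) (hb r)
  | smul c a _ ha => intro r; rw [smul_smul]; exact ha _

theorem isHomogeneous_sup {Z Z' : Submodule R P.carrier} (h : Z.IsHomogeneous P.gr) (h' : Z'.IsHomogeneous P.gr) :
    (Z ⊔ Z').IsHomogeneous P.gr := by
  intro j y hy
  obtain ⟨a, ha, b, hb, rfl⟩ := Submodule.mem_sup.1 hy
  rw [decompose_add, DirectSum.add_apply, AddMemClass.coe_add]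
  exact Submodule.add_mem_sup (h j ha) (h' j hb)

theorem isStable_sup_span {Z : Submodule R P.carrier} (hZ : IsStable P Z) {s : Set P.carrier}
    (hs : ∀ x ∈ s, ∃ g, x ∈ P.gr g)
    (hst : ∀ (h : P.carrier →ₗ[R] P.carrier) (d : ℤ), GrLC.IsGrHomDeg P.gr P.gr h d → ∀ x ∈ s, h x ∈ s) :
    IsStable P (Z ⊔ Submodule.span R s) := by
  refine ⟨isHomogeneous_sup hZ.1 (isHomogeneous_span hs), fun h d hd z hz => ?_⟩
  obtain ⟨a, ha, b, hb, rfl⟩ := Submodule.mem_sup.1 hz
  rw [map_add]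
  refine Submodule.add_mem_sup (hZ.2 h d hd a ha) ?_
  have hle : Submodule.span R s ≤ (Submodule.span R s).comap h :=
    Submodule.span_le.2 fun x hx => Submodule.subset_span (hst h d hd x hx)
  exact hle hb

include hpos in
/-- Components of combinations of non-bijective homogeneous maps at a homogeneous element. -/
theorem exists_component (hF : IsField (GrLC.deg0 𝒜)) (hP : Indec P) {g : ℤ} {y : P.carrier} (hy : y ∈ P.gr g)
    {x : P.carrier} (hx : x ∈ Submodule.span R ((fun w : P.carrier →ₗ[R] P.carrier => w y) '' Degw P)) :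
    ∃ ψ : P.carrier →ₗ[R] P.carrier, GrLC.IsGrHomDeg P.gr P.gr ψ 0 ∧ ¬ Function.Bijective ψ ∧
      (decompose P.gr x g : P.carrier) = ψ y := by
  classical
  haveI := hP.1
  have h0 : ∃ ψ : P.carrier →ₗ[R] P.carrier, GrLC.IsGrHomDeg P.gr P.gr ψ 0 ∧ ¬ Function.Bijective ψ ∧ ψ y = 0 :=
    ⟨0, fun _ _ _ => zero_mem _, fun h => by
      obtain ⟨a, ha⟩ := exists_ne (0 : P.carrier)
      exact ha (h.1 rfl), rfl⟩
  suffices ∀ r : R, ∃ ψ : P.carrier →ₗ[R] P.carrier, GrLC.IsGrHomDeg P.gr P.gr ψ 0 ∧ ¬ Function.Bijective ψ ∧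
      (decompose P.gr (r • x) g : P.carrier) = ψ y by simpa using this 1
  induction hx using Submodule.span_induction with
  | mem x hx =>
    intro r
    obtain ⟨w, ⟨d, hd, hnb⟩, rfl⟩ := hx
    let a : R := decompose 𝒜 r (g - (g + d))
    refine ⟨a • w, ?_, ?_, ?_⟩
    · have h := isGrHomDeg_comp hd (isGrHomDeg_smul_id (𝒜 := 𝒜) (ℳ := P.gr)
        (SetLike.coe_mem (decompose 𝒜 r (g - (g + d))))) (d' := 0) (by omega)
      exact h
    · intro hb
      have hs : Function.Surjective w := fun z => by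
        obtain ⟨v, hv⟩ := hb.2 z
        exact ⟨a • v, by rw [map_smul]; exact hv⟩
      exact hnb ⟨OrzechProperty.injective_of_surjective_endomorphism w hs, hs⟩
    · rw [decompose_smul_of_mem 𝒜 P.gr (hd g y hy) r g]
      rfl
  | zero =>
    intro r
    obtain ⟨ψ, h1, h2, h3⟩ := h0
    exact ⟨ψ, h1, h2, by simp [h3]⟩
  | add a b _ _ ha hb =>
    intro r
    obtain ⟨ψ, h1, h2, h3⟩ := ha r
    obtain ⟨ψ', h1', h2', h3'⟩ := hb r
    refine ⟨ψ + ψ', isGrHomDeg_add h1 h1', not_bijective_sum hpos hF hP h1 h1' h2 h2', ?_⟩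
    rw [smul_add, decompose_add, DirectSum.add_apply, AddMemClass.coe_add, h3, h3', LinearMap.add_apply]
  | smul c a _ ha => intro r; rw [smul_smul]; exact ha _

end Groth.Agent.GrLib8.CanonExt
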