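import Groth.Agent.GrLib8.Res
import Groth.Agent.GrLib8.ExtVanish

/-!
# Gradings on `Hom` and `Ext` out of a finite graded module
-/

set_option autoImplicit false
set_option linter.unusedSectionVars false

universe u

open DirectSum CategoryTheory

namespace Groth.Agent.GrLib8.CanonExt

variable {ι : Type} [AddCommGroup ι] [DecidableEq ι]
variable {R : Type u} [CommRing R] {𝒜 : ι → AddSubgroup R} [GradedRing 𝒜]
variable {M : Type u} [AddCommGroup M] [Module R M] (ℳ : ι → AddSubgroup M) [Decomposition ℳ]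
  [SetLike.GradedSMul 𝒜 ℳ] [Module.Finite R M]

/-- The pieces of `Hom(M, X)`. -/
def homPieces (X : GrLC.GMod.{u} 𝒜) : ι → AddSubgroup (M →ₗ[R] X.carrier) :=
  fun d => (GrLC.homDeg 𝒜 ℳ X.gr d).toAddSubgroup

/-- `Hom(M, X)` as a graded module. -/
noncomputable def homGMod (X : GrLC.GMod.{u} 𝒜) : GrLC.GMod.{u} 𝒜 :=
  gmodOf 𝒜 (M →ₗ[R] X.carrier) (homPieces ℳ X)
    (fun φ => by
      obtain ⟨D, hD⟩ := exists_sum_compHom X.gr ℳ (𝒜 := 𝒜) φ
      rw [hD]
      exact AddSubgroup.sum_mem _ fun d _ => AddSubgroup.mem_iSup_of_mem d (isGrHomDeg_compHom X.gr ℳ φ d))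
    (fun s c hc hsum d hd => by
      classical
      refine LinearMap.ext fun x => ?_
      induction x using DirectSum.Decomposition.inductionOn ℳ with
      | zero => rw [map_zero, map_zero]
      | add x y hx hy => rw [map_add, hx, hy, LinearMap.zero_apply, LinearMap.zero_apply, LinearMap.zero_apply, add_zero]
      | @homogeneous g x =>
        have h0 := LinearMap.congr_fun hsum (x : M)
        rw [LinearMap.sum_apply, LinearMap.zero_apply] at h0
        have h := gIndep_of_decomposition X.gr (s.map (addLeftEmbedding g)) (fun i => c (i - g) (x : M))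
          (fun i hi => by
            obtain ⟨j, hj, rfl⟩ := Finset.mem_map.1 hi
            show c (g + j - g) (x : M) ∈ X.gr (g + j)
            rw [add_sub_cancel_left]
            exact hc j hj g _ x.2)
          (by
            rw [Finset.sum_map]
            refine Eq.trans (Finset.sum_congr rfl fun j _ => ?_) h0
            show c (g + j - g) (x : M) = _
            rw [add_sub_cancel_left])
          (g + d) (Finset.mem_map.2 ⟨d, hd, rfl⟩)
        rwa [add_sub_cancel_left] at h)
    (fun {i g r _φ} hr hφ h m hm => by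
      rw [LinearMap.smul_apply, add_left_comm]
      exact SetLike.GradedSMul.smul_mem (B := X.gr) hr (hφ h m hm))

/-- Composition with a homogeneous map. -/
noncomputable def homPost {X Y : GrLC.GMod.{u} 𝒜} (g : X.carrier →ₗ[R] Y.carrier) :
    (homGMod ℳ X).carrier →ₗ[R] (homGMod ℳ Y).carrier :=
  g.compRight R

theorem isGrHom_homPost {X Y : GrLC.GMod.{u} 𝒜} (g : X.carrier →ₗ[R] Y.carrier) (hg : GrLC.IsGrHom X.gr Y.gr g) :
    GrLC.IsGrHom (homGMod ℳ X).gr (homGMod ℳ Y).gr (homPost ℳ g) := fun d φ hφ h m hm =>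
  hg (h + d) _ (hφ h m hm)

variable [IsNoetherianRing R]

/-- `Ext^0(M, Y) = Hom(M, Y)`. -/
noncomputable def extHom (Y : Type u) [AddCommGroup Y] [Module R Y] :
    Abelian.Ext.{u} (ModuleCat.of R M) (ModuleCat.of R Y) 0 ≃ₗ[R] (M →ₗ[R] Y) :=
  Abelian.Ext.linearEquiv₀.trans ModuleCat.homLinearEquiv

include ℳ in
/-- `Ext^i(M, X)` carries a grading. -/
theorem exists_graded_ext : ∀ (i : ℕ) (X : GrLC.GMod.{u} 𝒜),
    ∃ N : GrLC.GMod.{u} 𝒜,
      Nonempty (N.carrier ≃ₗ[R] Abelian.Ext.{u} (ModuleCat.of R M) (ModuleCat.of R X.carrier) i) := by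
  intro i
  induction i with
  | zero => exact fun X => ⟨homGMod ℳ X, ⟨(extHom (M := M) X.carrier).symm⟩⟩
  | succ i ih =>
    intro X
    let H := hullObj X
    let C := cosyz X
    let T : ShortComplex (ModuleCat.{u} R) := ShortComplex.mk (X₁ := ModuleCat.of R X.carrier)
      (X₂ := ModuleCat.of R H.carrier) (X₃ := ModuleCat.of R C.carrier)
      (ModuleCat.ofHom (hullMap X)) (ModuleCat.ofHom (cosyzMap X))
      (ModuleCat.hom_ext (LinearMap.ext fun x => (ker_cosyzMap X).ge ⟨x, rfl⟩))
    have hT : T.ShortExact :=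
      { exact := (ShortComplex.ShortExact.moduleCat_exact_iff_function_exact _).2
          (LinearMap.exact_iff.2 (ker_cosyzMap X))
        mono_f := (ModuleCat.mono_iff_injective _).2 (hull_spec X).injective
        epi_g := (ModuleCat.epi_iff_surjective _).2 (cosyzMap_surjective X) }
    let Q : ModuleCat.{u} R := ModuleCat.of R M
    have hvan : ∀ j, Subsingleton (Abelian.Ext.{u} Q T.X₂ (j + 1)) := fun j =>
      subsingleton_ext H.gr (hull_spec X).starInj j (gmodPieces 𝒜 ℳ) (inferInstanceAs (Module.Finite R M))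
    let δ : Abelian.Ext Q T.X₃ i →ₗ[R] Abelian.Ext Q T.X₁ (i + 1) :=
      Abelian.Ext.postcompOfLinear hT.extClass R Q rfl
    have hδ : Function.Surjective δ := fun x =>
      Abelian.Ext.covariant_sequence_exact₁ Q hT x (@Subsingleton.elim _ (hvan i) _ _) rfl
    rcases i with _ | i
    · let g : H.carrier →ₗ[R] C.carrier := cosyzMap X
      let gH : (homGMod ℳ H).carrier →ₗ[R] (homGMod ℳ C).carrier := homPost ℳ g
      have hgH : GrLC.IsGrHom (homGMod ℳ H).gr (homGMod ℳ C).gr gH :=
        isGrHom_homPost ℳ g fun d y hy => isGrHom_mkQ H.gr _ d y hy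
      let K : Submodule R (homGMod ℳ C).carrier := LinearMap.range gH
      have hK : K.IsHomogeneous (homGMod ℳ C).gr := isHomogeneous_range _ _ hgH
      let e : (homGMod ℳ C).carrier ≃ₗ[R] Abelian.Ext.{u} Q T.X₃ 0 := (extHom (M := M) C.carrier).symm
      let q : (homGMod ℳ C).carrier →ₗ[R] Abelian.Ext.{u} Q T.X₁ 1 := δ ∘ₗ e.toLinearMap
      have hq : Function.Surjective q := hδ.comp e.surjective
      have hker : LinearMap.range gH = LinearMap.ker q := by
        have hnat : ∀ w : Abelian.Ext.{u} Q T.X₂ 0,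
            extHom (M := M) C.carrier (w.comp (Abelian.Ext.mk₀ T.g) (add_zero 0)) =
              gH (extHom (M := M) H.carrier w) := by
          intro w
          obtain ⟨w, rfl⟩ := (Abelian.Ext.linearEquiv₀ (R := R)).symm.surjective (w : Abelian.Ext Q T.X₂ 0)
          show extHom (M := M) C.carrier ((Abelian.Ext.mk₀ w).comp (Abelian.Ext.mk₀ T.g) (add_zero 0)) =
            gH (extHom (M := M) H.carrier (Abelian.Ext.mk₀ w))
          rw [Abelian.Ext.mk₀_comp_mk₀]
          refine LinearMap.ext fun x => ?_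
          show (Abelian.Ext.linearEquiv₀ (R := R) (Abelian.Ext.mk₀ (w ≫ T.g))).hom x =
            g ((Abelian.Ext.linearEquiv₀ (R := R) (Abelian.Ext.mk₀ w)).hom x)
          rw [show Abelian.Ext.linearEquiv₀ (R := R) (Abelian.Ext.mk₀ (w ≫ T.g)) = w ≫ T.g from
            Abelian.Ext.linearEquiv₀.apply_symm_apply _,
            show Abelian.Ext.linearEquiv₀ (R := R) (Abelian.Ext.mk₀ w) = w from
            Abelian.Ext.linearEquiv₀.apply_symm_apply _]
          rfl
        refine le_antisymm ?_ fun z hz => ?_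
        · rintro _ ⟨y, rfl⟩
          show δ (e (gH y)) = 0
          obtain ⟨w, rfl⟩ := (extHom (M := M) H.carrier).surjective y
          rw [← hnat w, show e (extHom (M := M) C.carrier (w.comp (Abelian.Ext.mk₀ T.g) (add_zero 0))) = _ from (extHom (M := M) C.carrier).symm_apply_apply _]
          show (w.comp (Abelian.Ext.mk₀ T.g) (add_zero 0)).comp hT.extClass rfl = 0
          rw [Abelian.Ext.comp_assoc_of_second_deg_zero, hT.comp_extClass, Abelian.Ext.comp_zero]
        · obtain ⟨w, hw⟩ := Abelian.Ext.covariant_sequence_exact₃ Q hT (e z) rfl hz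
          refine ⟨extHom (M := M) H.carrier w, ?_⟩
          rw [← hnat w, hw]
          exact (extHom (M := M) C.carrier).apply_symm_apply z
      exact ⟨quotGMod 𝒜 (homGMod ℳ C).gr K hK, ⟨(Submodule.quotEquivOfEq (LinearMap.range gH) (LinearMap.ker q)
        hker).trans (q.quotKerEquivOfSurjective hq)⟩⟩
    · obtain ⟨N, ⟨e⟩⟩ := ih C
      refine ⟨N, ⟨e.trans (LinearEquiv.ofBijective δ ⟨?_, hδ⟩)⟩⟩
      rw [injective_iff_map_eq_zero]
      intro x hx
      obtain ⟨w, hw⟩ := Abelian.Ext.covariant_sequence_exact₃ Q hT x rfl hx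
      rw [← hw, @Subsingleton.elim _ (hvan i) w 0, Abelian.Ext.zero_comp]

end Groth.Agent.GrLib8.CanonExt
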