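import Groth.Agent.GrLib8.CanonExt.Local
import Mathlib.LinearAlgebra.TensorProduct.Prod
import Mathlib.LinearAlgebra.TensorProduct.Quotient

/-!
# Graded modules isomorphic at the *maximal ideal are isomorphic
-/

set_option autoImplicit false
set_option linter.unusedSectionVars false
set_option linter.style.haveILetI false

universe u

open DirectSum
open scoped TensorProduct

namespace Groth.Agent.GrLib8.CanonExt

variable {R : Type u} [CommRing R] [IsNoetherianRing R] {𝒜 : ℤ → AddSubgroup R} [GradedRing 𝒜]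
variable (hpos : ∀ n : ℤ, n < 0 → 𝒜 n = ⊥) (hF : IsField (GrLC.deg0 𝒜))
variable {m : HomogeneousIdeal 𝒜} [m.toIdeal.IsMaximal] (hm : GrLC.IsStarLocal 𝒜 m)

local notation "Sm" => m.toIdeal.primeCompl
local notation "Am" => Localization.AtPrime m.toIdeal

variable (m) in
/-- The number of generators at the *maximal ideal. -/
noncomputable def mu (M : Type u) [AddCommGroup M] [Module R M] : ℕ :=
  Module.finrank (R ⧸ m.toIdeal) ((R ⧸ m.toIdeal) ⊗[R] M)

theorem mu_split {M P Q : Type u} [AddCommGroup M] [Module R M] [AddCommGroup P] [Module R P] [Module.Finite R P]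
    [AddCommGroup Q] [Module R Q] [Module.Finite R Q] (e : M ≃ₗ[R] P × Q) : mu m M = mu m P + mu m Q := by
  letI := Ideal.Quotient.field m.toIdeal
  show Module.finrank (R ⧸ m.toIdeal) ((R ⧸ m.toIdeal) ⊗[R] M) = _
  rw [((LinearEquiv.baseChange R (R ⧸ m.toIdeal) _ _ e).trans
    (TensorProduct.prodRight R (R ⧸ m.toIdeal) (R ⧸ m.toIdeal) P Q)).finrank_eq, Module.finrank_prod]
  rfl

include hm in
theorem mu_pos {M : GrLC.GMod.{u} 𝒜} [Module.Finite R M.carrier] [Nontrivial M.carrier] : 0 < mu m M.carrier := by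
  classical
  letI := Ideal.Quotient.field m.toIdeal
  by_contra h0
  haveI : Subsingleton ((R ⧸ m.toIdeal) ⊗[R] M.carrier) := Module.finrank_zero_iff.1 (Nat.eq_zero_of_not_pos h0)
  haveI : Subsingleton (M.carrier ⧸ m.toIdeal • (⊤ : Submodule R M.carrier)) :=
    (TensorProduct.quotTensorEquivQuotSMul M.carrier m.toIdeal).symm.toEquiv.subsingleton
  have hle : (⊤ : Submodule R M.carrier) ≤ m.toIdeal • ⊤ := fun x _ =>
    (Submodule.Quotient.mk_eq_zero _).1 (Subsingleton.elim _ _)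
  obtain ⟨r, hr, hrk⟩ := Submodule.exists_sub_one_mem_and_smul_eq_zero_of_fg_of_le_smul m.toIdeal _
    (IsNoetherian.noetherian _) hle
  have hrm : r ∉ m.toIdeal := fun hmem => Ideal.IsMaximal.ne_top ‹m.toIdeal.IsMaximal›
    ((Ideal.eq_top_iff_one _).2 (by simpa using sub_mem hmem hr))
  obtain ⟨x, hx⟩ := exists_ne (0 : M.carrier)
  apply hx
  rw [← sum_support_decompose M.gr x]
  refine Finset.sum_eq_zero fun g _ => (Submodule.mem_bot R).1 ?_
  exact StarGor.mem_of_smul_mem M.gr hm ⊥ (fun i z hz => by rw [(Submodule.mem_bot R).1 hz]; simp)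
    (SetLike.coe_mem _) hrm ((Submodule.mem_bot R).2 (hrk _ trivial))

/-- The complementary summand of a homogeneous retract. -/
theorem exists_split {M P : GrLC.GMod.{u} 𝒜} (i : P.carrier →ₗ[R] M.carrier) (p : M.carrier →ₗ[R] P.carrier) {e : ℤ}
    (hp : GrLC.IsGrHomDeg M.gr P.gr p e) (hpi : p ∘ₗ i = LinearMap.id) [Module.Finite R M.carrier] :
    ∃ (Q : GrLC.GMod.{u} 𝒜) (_ : Module.Finite R Q.carrier) (ι : Q.carrier →ₗ[R] M.carrier)
      (π : M.carrier →ₗ[R] Q.carrier), π ∘ₗ ι = LinearMap.id ∧ p ∘ₗ ι = 0 ∧ π ∘ₗ i = 0 ∧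
        i ∘ₗ p + ι ∘ₗ π = LinearMap.id := by
  let K := LinearMap.ker p
  have hπ : ∀ x, (LinearMap.id - i ∘ₗ p : M.carrier →ₗ[R] M.carrier) x ∈ K := fun x => by
    have h := LinearMap.congr_fun hpi (p x)
    rw [LinearMap.comp_apply, LinearMap.id_apply] at h
    rw [LinearMap.mem_ker, LinearMap.sub_apply, map_sub, LinearMap.id_apply, LinearMap.comp_apply, h, sub_self]
  refine ⟨subGMod 𝒜 M.gr K (isHomogeneous_ker_deg hp), inferInstanceAs (Module.Finite R K), K.subtype,
    (LinearMap.id - i ∘ₗ p : M.carrier →ₗ[R] M.carrier).codRestrict K hπ, ?_, ?_, ?_, ?_⟩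
  · refine LinearMap.ext fun x => Subtype.ext ?_
    show (x : K).1 - i (p (x : K).1) = _
    rw [LinearMap.mem_ker.1 (x : K).2, map_zero, sub_zero]
    rfl
  · exact LinearMap.ext fun x => LinearMap.mem_ker.1 (x : K).2
  · refine LinearMap.ext fun x => Subtype.ext ?_
    show i x - i (p (i x)) = _
    rw [← LinearMap.comp_apply p i, hpi, LinearMap.id_apply, sub_self]
    rfl
  · refine LinearMap.ext fun x => ?_
    show i (p x) + (x - i (p x)) = x
    abel

include hm in
/-- A nonzero finite graded module has an indecomposable homogeneous retract. -/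
theorem exists_indec (M : GrLC.GMod.{u} 𝒜) [Module.Finite R M.carrier] [Nontrivial M.carrier] :
    ∃ (P : GrLC.GMod.{u} 𝒜) (_ : Module.Finite R P.carrier) (i : P.carrier →ₗ[R] M.carrier)
      (p : M.carrier →ₗ[R] P.carrier), GrLC.IsGrHomDeg P.gr M.gr i 0 ∧ GrLC.IsGrHomDeg M.gr P.gr p 0 ∧
        p ∘ₗ i = LinearMap.id ∧ Indec P := by
  classical
  let S : Set ℕ := {c | ∃ (P : GrLC.GMod.{u} 𝒜) (_ : Module.Finite R P.carrier) (i : P.carrier →ₗ[R] M.carrier)
      (p : M.carrier →ₗ[R] P.carrier), Nontrivial P.carrier ∧ GrLC.IsGrHomDeg P.gr M.gr i 0 ∧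
        GrLC.IsGrHomDeg M.gr P.gr p 0 ∧ p ∘ₗ i = LinearMap.id ∧ mu m P.carrier = c}
  have hne : S.Nonempty := ⟨_, M, inferInstance, LinearMap.id, LinearMap.id, inferInstance,
    fun g x hx => by simpa using hx, fun g x hx => by simpa using hx, LinearMap.id_comp _, rfl⟩
  obtain ⟨c, ⟨P, hfin, i, p, hP, hi, hp, hpi, rfl⟩, hmin⟩ := wellFounded_lt.has_min S hne
  refine ⟨P, hfin, i, p, hi, hp, hpi, hP, fun K L hK hL hKL => ?_⟩
  by_contra hcon
  push Not at hcon
  obtain ⟨hK0, hL0⟩ := hcon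
  haveI : Nontrivial (subGMod 𝒜 P.gr K hK).carrier := Submodule.nontrivial_iff_ne_bot.2 hK0
  haveI : Nontrivial (subGMod 𝒜 P.gr L hL).carrier := Submodule.nontrivial_iff_ne_bot.2 hL0
  haveI : Module.Finite R (subGMod 𝒜 P.gr K hK).carrier := inferInstanceAs (Module.Finite R K)
  haveI : Module.Finite R (subGMod 𝒜 P.gr L hL).carrier := inferInstanceAs (Module.Finite R L)
  refine hmin _ ⟨subGMod 𝒜 P.gr K hK, inferInstance, i ∘ₗ K.subtype, (K.projectionOnto L hKL) ∘ₗ p,
    inferInstance, fun g x hx => hi g _ hx, fun g x hx => ?_, LinearMap.ext fun x => ?_, rfl⟩ ?_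
  · show ((K.projectionOnto L hKL (p x) : K) : P.carrier) ∈ P.gr (g + 0)
    have hpx := hp g x hx
    generalize hy : p x = y at hpx
    obtain ⟨a, ha, b, hb, hab⟩ := Submodule.mem_sup.1 (hKL.sup_eq_top ▸ Submodule.mem_top : y ∈ K ⊔ L)
    have hab' : (decompose P.gr a (g + 0) : P.carrier) + decompose P.gr b (g + 0) = y := by
      rw [← AddMemClass.coe_add, ← DirectSum.add_apply, ← decompose_add, hab, decompose_of_mem_same P.gr hpx]
    have h1 : K.projectionOnto L hKL (decompose P.gr a (g + 0) : P.carrier) =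
        (⟨_, hK (g + 0) ha⟩ : K) :=
      Submodule.projectionOnto_apply_left hKL (⟨_, hK (g + 0) ha⟩ : K)
    have h2 : K.projectionOnto L hKL (decompose P.gr b (g + 0) : P.carrier) = 0 :=
      (Submodule.projectionOnto_apply_eq_zero_iff hKL).2 (hL (g + 0) hb)
    rw [← hab', map_add, h1, h2, AddMemClass.coe_add, ZeroMemClass.coe_zero]
    exact add_mem (SetLike.coe_mem (decompose P.gr a (g + 0))) (zero_mem _)
  · show K.projectionOnto L hKL (p (i (x : K).1)) = x
    rw [← LinearMap.comp_apply p i, hpi, LinearMap.id_apply]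
    exact Submodule.projectionOnto_apply_left hKL x
  · show mu m K < mu m P.carrier
    rw [mu_split (m := m) (Submodule.prodEquivOfIsCompl K L hKL).symm]
    have := mu_pos (m := m) hm (M := subGMod 𝒜 P.gr L hL)
    change 0 < mu m L at this
    omega

theorem map_comp_map {M N L : Type u} [AddCommGroup M] [Module R M] [AddCommGroup N] [Module R N] [AddCommGroup L]
    [Module R L] (g : N →ₗ[R] L) (f : M →ₗ[R] N) :
    LocalizedModule.map Sm g ∘ₗ LocalizedModule.map Sm f = LocalizedModule.map Sm (g ∘ₗ f) := LinearMap.ext fun z => by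
  induction z using LocalizedModule.induction_on with
  | h p t => rw [LinearMap.comp_apply, LocalizedModule.map_mk, LocalizedModule.map_mk, LocalizedModule.map_mk]; rfl

theorem map_id' {M : Type u} [AddCommGroup M] [Module R M] :
    LocalizedModule.map Sm (LinearMap.id : M →ₗ[R] M) = LinearMap.id := LinearMap.ext fun z => by
  induction z using LocalizedModule.induction_on with
  | h p t => rw [LocalizedModule.map_mk]; rfl

theorem nonempty_locSplit {M P Q : Type u} [AddCommGroup M] [Module R M] [AddCommGroup P] [Module R P]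
    [AddCommGroup Q] [Module R Q] (i : P →ₗ[R] M) (p : M →ₗ[R] P) (ι : Q →ₗ[R] M) (π : M →ₗ[R] Q)
    (hpi : p ∘ₗ i = LinearMap.id) (hπι : π ∘ₗ ι = LinearMap.id) (hpι : p ∘ₗ ι = 0) (hπi : π ∘ₗ i = 0)
    (hsum : i ∘ₗ p + ι ∘ₗ π = LinearMap.id) :
    Nonempty (LocalizedModule Sm M ≃ₗ[Am] LocalizedModule Sm P × LocalizedModule Sm Q) :=
  ⟨splitEquiv (LocalizedModule.map Sm i) (LocalizedModule.map Sm p) (LocalizedModule.map Sm ι)
    (LocalizedModule.map Sm π) (by rw [map_comp_map, hpi, map_id']) (by rw [map_comp_map, hπι, map_id'])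
    (by rw [map_comp_map, hpι, map_zero]) (by rw [map_comp_map, hπi, map_zero])
    (by rw [map_comp_map, map_comp_map, ← map_add, hsum, map_id'])⟩

include hpos hF hm in
/-- An indecomposable local retract of a graded module is a homogeneous retract. -/
theorem exists_retract {P N : GrLC.GMod.{u} 𝒜} [Module.Finite R P.carrier] [Module.Finite R N.carrier] (hP : Indec P)
    (a : LocalizedModule Sm P.carrier →ₗ[Am] LocalizedModule Sm N.carrier)
    (b : LocalizedModule Sm N.carrier →ₗ[Am] LocalizedModule Sm P.carrier) (hba : b ∘ₗ a = LinearMap.id) :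
    ∃ (i : P.carrier →ₗ[R] N.carrier) (p : N.carrier →ₗ[R] P.carrier) (e : ℤ),
      GrLC.IsGrHomDeg N.gr P.gr p e ∧ p ∘ₗ i = LinearMap.id := by
  classical
  haveI := hP.1
  obtain ⟨f, s, hf⟩ := exists_loc_lift m a
  obtain ⟨g, t, hg⟩ := exists_loc_lift m b
  obtain ⟨D, hD⟩ := exists_sum_compHom N.gr P.gr (𝒜 := 𝒜) f
  obtain ⟨E, hE⟩ := exists_sum_compHom P.gr N.gr (𝒜 := 𝒜) g
  by_cases hex : ∃ d ∈ D, ∃ e ∈ E,
      Function.Bijective (compHom P.gr N.gr (𝒜 := 𝒜) g e ∘ₗ compHom N.gr P.gr (𝒜 := 𝒜) f d : P.carrier →ₗ[R] P.carrier)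
  · obtain ⟨d, -, e, -, hb⟩ := hex
    let u := LinearEquiv.ofBijective _ hb
    have hu₀ := isGrHomDeg_comp (isGrHomDeg_compHom (𝒜 := 𝒜) N.gr P.gr f d)
      (isGrHomDeg_compHom (𝒜 := 𝒜) P.gr N.gr g e) rfl
    have hu : GrLC.IsGrHomDeg P.gr P.gr u.toLinearMap (d + e) := fun j x hx => hu₀ j x hx
    exact ⟨compHom N.gr P.gr (𝒜 := 𝒜) f d, u.symm.toLinearMap ∘ₗ compHom P.gr N.gr (𝒜 := 𝒜) g e, _,
      isGrHomDeg_comp (isGrHomDeg_compHom P.gr N.gr g e) (isGrHomDeg_symm u rfl hu) rfl,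
      LinearMap.ext fun x => u.symm_apply_apply x⟩
  push Not at hex
  exfalso
  obtain ⟨c, i₀, hi₀, hci⟩ := (Ideal.IsMaximal.exists_inv ‹m.toIdeal.IsMaximal› (mul_mem s.2 t.2 : (s : R) * t ∈ Sm))
  have hW : g ∘ₗ f ∈ Submodule.span R (Degw P) := by
    rw [show (g ∘ₗ f : P.carrier →ₗ[R] P.carrier) =
      (∑ e ∈ E, compHom P.gr N.gr (𝒜 := 𝒜) g e) ∘ₗ ∑ d ∈ D, compHom N.gr P.gr (𝒜 := 𝒜) f d from by
        rw [← hD, ← hE]]
    rw [show ((∑ e ∈ E, compHom P.gr N.gr (𝒜 := 𝒜) g e) ∘ₗ ∑ d ∈ D, compHom N.gr P.gr (𝒜 := 𝒜) f d) =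
      ∑ d ∈ D, ∑ e ∈ E, compHom P.gr N.gr (𝒜 := 𝒜) g e ∘ₗ compHom N.gr P.gr (𝒜 := 𝒜) f d from
      LinearMap.ext fun x => by simp [LinearMap.sum_apply]; exact Finset.sum_comm]
    exact Submodule.sum_mem _ fun d hd => Submodule.sum_mem _ fun e he => Submodule.subset_span
      ⟨_, isGrHomDeg_comp (isGrHomDeg_compHom N.gr P.gr f d) (isGrHomDeg_compHom P.gr N.gr g e) rfl, hex d hd e he⟩
  have htop := range_sup_eq_top (m := m) hpos hF hP _ (Submodule.smul_mem _ c hW)
  have hloc : LocalizedModule.map Sm (g ∘ₗ f) =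
      algebraMap R Am ((s : R) * t) • (LinearMap.id : LocalizedModule Sm P.carrier →ₗ[Am] _) := by
    rw [← map_comp_map, hf, hg, LinearMap.smul_comp, LinearMap.comp_smul, hba, smul_smul, mul_comm, ← map_mul]
  have hrange : LinearMap.range (((s : R) * t) • (LinearMap.id : P.carrier →ₗ[R] P.carrier) - g ∘ₗ f) ⊔
      m.toIdeal • (⊤ : Submodule R P.carrier) = ⊤ := by
    refine eq_top_iff.2 fun z _ => ?_
    obtain ⟨a', ⟨w, rfl⟩, b', hb', rfl⟩ := Submodule.mem_sup.1 (htop ▸ Submodule.mem_top : z ∈ _)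
    have h2 : (LinearMap.id - c • (g ∘ₗ f) : P.carrier →ₗ[R] P.carrier) w =
        (((s : R) * t) • (LinearMap.id : P.carrier →ₗ[R] P.carrier) - g ∘ₗ f) (c • w) + i₀ • w := by
      have h3 : w = (c * ((s : R) * t)) • w + i₀ • w := by rw [← add_smul, hci, one_smul]
      simp only [LinearMap.sub_apply, LinearMap.smul_apply, LinearMap.id_apply, map_smul]
      conv_lhs => arg 1; rw [h3]
      rw [smul_sub, smul_smul]
      abel
    rw [h2, add_assoc]
    exact Submodule.add_mem_sup ⟨c • w, rfl⟩ (add_mem (Submodule.smul_mem_smul hi₀ trivial) hb')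
  have hsurj := surjective_map_of_range _ hrange
  have hzero : LocalizedModule.map Sm (((s : R) * t) • (LinearMap.id : P.carrier →ₗ[R] P.carrier) - g ∘ₗ f) = 0 := by
    rw [map_sub, map_smul, map_id', hloc, algebraMap_smul, sub_self]
  obtain ⟨x, hx⟩ := exists_ne (0 : P.carrier)
  apply hx
  rw [← sum_support_decompose P.gr x]
  refine Finset.sum_eq_zero fun j _ => (Submodule.mem_bot R).1 ?_
  obtain ⟨w, hw⟩ := hsurj (LocalizedModule.mkLinearMap Sm P.carrier (decompose P.gr x j : P.carrier))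
  rw [hzero, LinearMap.zero_apply] at hw
  obtain ⟨r, hr⟩ := (IsLocalizedModule.eq_zero_iff Sm (LocalizedModule.mkLinearMap Sm P.carrier)).1 hw.symm
  exact StarGor.mem_of_smul_mem P.gr hm ⊥ (fun i z hz => by rw [(Submodule.mem_bot R).1 hz]; simp)
    (SetLike.coe_mem _) r.2 ((Submodule.mem_bot R).2 hr)

include hm in
theorem subsingleton_of_loc (M : GrLC.GMod.{u} 𝒜) [Subsingleton (LocalizedModule Sm M.carrier)] :
    Subsingleton M.carrier := by
  classical
  refine subsingleton_of_forall_eq 0 fun x => ?_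
  rw [← sum_support_decompose M.gr x]
  refine Finset.sum_eq_zero fun g _ => (Submodule.mem_bot R).1 ?_
  obtain ⟨r, hr⟩ := (IsLocalizedModule.eq_zero_iff Sm (LocalizedModule.mkLinearMap Sm M.carrier)).1
    (Subsingleton.elim (LocalizedModule.mkLinearMap Sm M.carrier (decompose M.gr x g : M.carrier)) 0)
  exact StarGor.mem_of_smul_mem M.gr hm ⊥ (fun i z hz => by rw [(Submodule.mem_bot R).1 hz]; simp)
    (SetLike.coe_mem _) r.2 ((Submodule.mem_bot R).2 hr)

include hpos hF hm in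
/-- Finite graded modules which are isomorphic at the *maximal ideal are isomorphic. -/
theorem nonempty_equiv_of_loc : ∀ (k : ℕ) (M N : GrLC.GMod.{u} 𝒜) [Module.Finite R M.carrier] [Module.Finite R N.carrier],
    mu m M.carrier = k → ∀ _ : LocalizedModule Sm M.carrier ≃ₗ[Am] LocalizedModule Sm N.carrier,
      Nonempty (M.carrier ≃ₗ[R] N.carrier) := by
  intro k
  induction k using Nat.strong_induction_on with
  | _ k ih =>
    intro M N _ _ hk η
    rcases subsingleton_or_nontrivial M.carrier with hM | hM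
    · haveI : Subsingleton (LocalizedModule Sm M.carrier) := LocalizedModule.subsingleton_iff.2 fun x =>
        ⟨1, one_mem _, Subsingleton.elim _ _⟩
      haveI := η.symm.toEquiv.subsingleton
      haveI := subsingleton_of_loc hm N
      exact ⟨LinearEquiv.ofSubsingleton M.carrier N.carrier⟩
    obtain ⟨P, hfin, i, p, -, hp, hpi, hP⟩ := exists_indec (m := m) hm M
    obtain ⟨M', _, ι, π, h1, h2, h3, h4⟩ := exists_split i p hp hpi
    obtain ⟨i', p', e', hp', hpi'⟩ := exists_retract hpos hF hm hP (η.toLinearMap ∘ₗ LocalizedModule.map Sm i)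
      (LocalizedModule.map Sm p ∘ₗ η.symm.toLinearMap) (LinearMap.ext fun z => by
        show LocalizedModule.map Sm p (η.symm (η (LocalizedModule.map Sm i z))) = z
        rw [η.symm_apply_apply, ← LinearMap.comp_apply, map_comp_map, hpi, map_id']
        rfl)
    obtain ⟨N', _, ι', π', h1', h2', h3', h4'⟩ := exists_split i' p' hp' hpi'
    obtain ⟨sM⟩ := nonempty_locSplit (m := m) i p ι π hpi h1 h2 h3 h4
    obtain ⟨sN⟩ := nonempty_locSplit (m := m) i' p' ι' π' hpi' h1' h2' h3' h4'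
    haveI : Module.Finite Am (LocalizedModule Sm P.carrier) :=
      Module.Finite.of_isLocalizedModule Sm (LocalizedModule.mkLinearMap Sm P.carrier)
    obtain ⟨η'⟩ := nonempty_equiv_of_prod (fun x => end_local hpos hF hP x) ((sM.symm.trans η).trans sN)
    let eM := splitEquiv i p ι π hpi h1 h2 h3 h4
    let eN := splitEquiv i' p' ι' π' hpi' h1' h2' h3' h4'
    have hlt : mu m M'.carrier < k := by
      haveI := hP.1
      have := mu_pos (m := m) hm (M := P)
      rw [← hk, mu_split (m := m) eM]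
      omega
    obtain ⟨θ⟩ := ih _ hlt M' N' rfl η'
    exact ⟨(eM.trans ((LinearEquiv.refl R P.carrier).prodCongr θ)).trans eN.symm⟩

end Groth.Agent.GrLib8.CanonExt
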