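import Groth.Agent.GrLib8.CanonExt.End
import Groth.Agent.GrLib8.CanonExt.Cancel
import Mathlib.RingTheory.Artinian.Module

/-!
# An indecomposable graded module has local endomorphisms at the *maximal ideal
-/

set_option autoImplicit false
set_option linter.unusedSectionVars false
set_option linter.style.haveILetI false

universe u

open DirectSum

namespace Groth.Agent.GrLib8.CanonExt

variable {R : Type u} [CommRing R] [IsNoetherianRing R] {𝒜 : ℤ → AddSubgroup R} [GradedRing 𝒜]
variable (hpos : ∀ n : ℤ, n < 0 → 𝒜 n = ⊥) (hF : IsField (GrLC.deg0 𝒜))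
variable {m : HomogeneousIdeal 𝒜} [m.toIdeal.IsMaximal] (hm : GrLC.IsStarLocal 𝒜 m)
variable {P : GrLC.GMod.{u} 𝒜} [Module.Finite R P.carrier]

local notation "Sm" => m.toIdeal.primeCompl
local notation "Am" => Localization.AtPrime m.toIdeal

variable (m P) in
theorem isStable_smul_top : IsStable P (m.toIdeal • (⊤ : Submodule R P.carrier)) := by
  classical
  refine ⟨fun j x hx => ?_, fun h d _ z hz => ?_⟩
  · induction hx using Submodule.smul_induction_on' with
    | smul a ha y _ =>
      rw [← sum_support_decompose 𝒜 a, Finset.sum_smul, decompose_sum, DFinsupp.finsetSum_apply,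
        AddSubmonoidClass.coe_finsetSum]
      refine Submodule.sum_mem _ fun i _ => ?_
      rw [decompose_smul_of_mem_left 𝒜 P.gr (SetLike.coe_mem (decompose 𝒜 a i)) y j]
      exact Submodule.smul_mem_smul (m.isHomogeneous i ha) (Submodule.mem_top : _ ∈ (⊤ : Submodule R P.carrier))
    | add a _ b _ ha hb =>
      rw [decompose_add, DirectSum.add_apply, AddMemClass.coe_add]
      exact add_mem ha hb
  · have hle : m.toIdeal • (⊤ : Submodule R P.carrier) ≤ (m.toIdeal • (⊤ : Submodule R P.carrier)).comap h :=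
      Submodule.smul_le.2 fun a ha y _ => by
        rw [Submodule.mem_comap, map_smul]
        exact Submodule.smul_mem_smul ha trivial
    exact hle hz

include hpos hF in
/-- Above a proper stable submodule there is one mapped into it by the non-bijective homogeneous maps. -/
theorem exists_above (hP : Indec P) {Z : Submodule R P.carrier} (hZ : IsStable P Z)
    (hbase : m.toIdeal • (⊤ : Submodule R P.carrier) ≤ Z) (htop : Z ≠ ⊤) :
    ∃ Z', IsStable P Z' ∧ Z < Z' ∧ ∀ f ∈ Degw P, ∀ z ∈ Z', f z ∈ Z := by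
  classical
  let B := m.toIdeal • (⊤ : Submodule R P.carrier)
  haveI : IsArtinian R (P.carrier ⧸ B) := by
    letI := Ideal.Quotient.field m.toIdeal
    let toQ : Submodule R (P.carrier ⧸ B) → Submodule (R ⧸ m.toIdeal) (P.carrier ⧸ B) := fun W =>
      { toAddSubmonoid := W.toAddSubmonoid
        smul_mem' := fun a x hx => by
          obtain ⟨r, rfl⟩ := Ideal.Quotient.mk_surjective a
          exact W.smul_mem r hx }
    exact StrictMono.wellFoundedLT (f := toQ) fun W W2 h => lt_iff_le_not_ge.2 ⟨fun x hx => h.le hx, fun h2 => h.not_ge fun x hx => h2 hx⟩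
  obtain ⟨Z', ⟨hst, hlt⟩, hmin⟩ :=
    (InvImage.wf (fun W : Submodule R P.carrier => W.map B.mkQ) wellFounded_lt).has_min
      {W | IsStable P W ∧ Z < W}
      ⟨⊤, ⟨fun i x _ => trivial, fun _ _ _ _ _ => trivial⟩, lt_top_iff_ne_top.2 htop⟩
  have hmin' : ∀ W, IsStable P W → Z < W → W ≤ Z' → W = Z' := by
    intro W hW hZW hWle
    by_contra hne
    refine hmin W ⟨hW, hZW⟩ (lt_of_le_of_ne (Submodule.map_mono hWle) fun he => hne (le_antisymm hWle fun x hx => ?_))
    obtain ⟨w, hw, hwx⟩ : B.mkQ x ∈ W.map B.mkQ := (SetLike.ext_iff.1 he _).2 (Submodule.mem_map_of_mem hx)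
    have h1 : x - w ∈ B := (Submodule.Quotient.eq B).1 hwx.symm
    simpa using W.add_mem (hbase.trans hZW.le h1) hw
  refine ⟨Z', hst, hlt, fun f hf z hz => ?_⟩
  let s : Set P.carrier := {x | ∃ f ∈ Degw P, ∃ (g : ℤ) (z : P.carrier), z ∈ Z' ∧ z ∈ P.gr g ∧ f z = x}
  have hs : ∀ x ∈ s, ∃ g, x ∈ P.gr g := by
    rintro _ ⟨f, ⟨d, hd, -⟩, g, z, -, hzg, rfl⟩
    exact ⟨g + d, hd g z hzg⟩
  have hT : IsStable P (Z ⊔ Submodule.span R s) := isStable_sup_span hZ hs fun h d hd x hx => by
    obtain ⟨f, hf, g, z, hz, hzg, rfl⟩ := hx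
    exact ⟨h ∘ₗ f, comp_left hf h hd, g, z, hz, hzg, rfl⟩
  have hTle : Z ⊔ Submodule.span R s ≤ Z' := sup_le hlt.le (Submodule.span_le.2 (by
    rintro _ ⟨f, ⟨d, hd, -⟩, g, z, hz, -, rfl⟩
    exact hst.2 f d hd z hz))
  have hspan : Submodule.span R s ≤ Z := by
    by_contra hcon
    have hTeq := hmin' _ hT (left_lt_sup.2 hcon) hTle
    obtain ⟨x, hx, hxZ⟩ := Set.not_subset.1 (not_le_of_gt hlt)
    obtain ⟨g, hgy⟩ : ∃ g, (decompose P.gr x g : P.carrier) ∉ Z := by
      by_contra h
      push Not at h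
      exact hxZ (sum_support_decompose P.gr x ▸ Submodule.sum_mem _ fun i _ => h i)
    let y : P.carrier := decompose P.gr x g
    have hyg : y ∈ P.gr g := SetLike.coe_mem _
    have hyZ' : y ∈ Z' := hst.1 g hx
    let t : Set P.carrier := {v | ∃ (h : P.carrier →ₗ[R] P.carrier) (d : ℤ), GrLC.IsGrHomDeg P.gr P.gr h d ∧ h y = v}
    have hE : IsStable P (Z ⊔ Submodule.span R t) := isStable_sup_span hZ
      (by rintro _ ⟨h, d, hd, rfl⟩; exact ⟨g + d, hd g y hyg⟩)
      (by rintro k e he _ ⟨h, d, hd, rfl⟩; exact ⟨k ∘ₗ h, d + e, isGrHomDeg_comp hd he rfl, rfl⟩)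
    have hEle : Z ⊔ Submodule.span R t ≤ Z' := sup_le hlt.le (Submodule.span_le.2 (by
      rintro _ ⟨h, d, hd, rfl⟩
      exact hst.2 h d hd y hyZ'))
    have hyt : y ∈ Z ⊔ Submodule.span R t := Submodule.mem_sup_right (Submodule.subset_span
      ⟨LinearMap.id, 0, fun i v hv => by simpa using hv, rfl⟩)
    have hEeq := hmin' _ hE (lt_of_le_of_ne le_sup_left fun he => hgy (he ▸ hyt)) hEle
    have hsle : Submodule.span R s ≤ Z ⊔ Submodule.span R ((fun w : P.carrier →ₗ[R] P.carrier => w y) '' Degw P) := by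
      refine Submodule.span_le.2 ?_
      rintro _ ⟨f, hf, i, z, hz, -, rfl⟩
      obtain ⟨a, ha, b, hb, rfl⟩ := Submodule.mem_sup.1 (hEeq ▸ hz : z ∈ Z ⊔ Submodule.span R t)
      rw [SetLike.mem_coe, map_add]
      obtain ⟨d, hd, hnb⟩ := id hf
      refine Submodule.add_mem_sup (hZ.2 f d hd a ha) ?_
      have hle : Submodule.span R t ≤
          (Submodule.span R ((fun w : P.carrier →ₗ[R] P.carrier => w y) '' Degw P)).comap f :=
        Submodule.span_le.2 (by
          rintro _ ⟨h, e, he, rfl⟩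
          exact Submodule.subset_span ⟨f ∘ₗ h, comp_right hf h he, rfl⟩)
      exact hle hb
    obtain ⟨a, ha, b, hb, hab⟩ := Submodule.mem_sup.1
      ((sup_le le_sup_left hsle) (hTeq.symm ▸ hyZ' : y ∈ Z ⊔ Submodule.span R s))
    obtain ⟨ψ, hψ, hψb, hψy⟩ := exists_component hpos hF hP hyg hb
    have hu : Function.Bijective (LinearMap.id - ψ : P.carrier →ₗ[R] P.carrier) :=
      (Module.End.isUnit_iff _).1 (isNilpotent_of_deg_zero hpos hF hP hψ hψb).isUnit_one_sub
    have hmem : (LinearMap.id - ψ : P.carrier →ₗ[R] P.carrier) y ∈ Z := by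
      have h1 : (decompose P.gr a g : P.carrier) + ψ y = y := by
        rw [← hψy, ← AddMemClass.coe_add, ← DirectSum.add_apply, ← decompose_add, hab,
          decompose_of_mem_same P.gr hyg]
      rw [LinearMap.sub_apply, LinearMap.id_apply, sub_eq_of_eq_add h1.symm]
      exact hZ.1 g ha
    obtain ⟨v, hv, -, hvu, -⟩ := exists_inv
      (isGrHomDeg_sub (fun i v hv => by simpa using hv) hψ) hu
    have hy' := hZ.2 v 0 hv _ hmem
    rw [← LinearMap.comp_apply, hvu, LinearMap.id_apply] at hy'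
    exact hgy hy'
  obtain ⟨d, hd, hnb⟩ := id hf
  rw [← sum_support_decompose P.gr z, map_sum]
  refine Submodule.sum_mem _ fun i _ => hspan (Submodule.subset_span ?_)
  exact ⟨f, hf, i, _, hst.1 i hz, SetLike.coe_mem _, rfl⟩

include hpos hF in
/-- Combinations of non-bijective homogeneous maps are quasi-regular modulo `m`. -/
theorem range_sup_eq_top (hP : Indec P) (f : P.carrier →ₗ[R] P.carrier) (hf : f ∈ Submodule.span R (Degw P)) :
    LinearMap.range (LinearMap.id - f : P.carrier →ₗ[R] P.carrier) ⊔ m.toIdeal • (⊤ : Submodule R P.carrier) = ⊤ := by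
  suffices ∀ Z : Submodule R P.carrier, IsStable P Z → m.toIdeal • (⊤ : Submodule R P.carrier) ≤ Z →
      Z ≤ LinearMap.range (LinearMap.id - f : P.carrier →ₗ[R] P.carrier) ⊔ m.toIdeal • (⊤ : Submodule R P.carrier) →
      LinearMap.range (LinearMap.id - f : P.carrier →ₗ[R] P.carrier) ⊔ m.toIdeal • (⊤ : Submodule R P.carrier) = ⊤
    from this _ (isStable_smul_top m P) le_rfl le_sup_right
  intro Z
  induction Z using WellFoundedGT.induction with
  | _ Z ih =>
    intro hZ hbase hle
    by_cases htop : Z = ⊤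
    · exact top_le_iff.1 (htop ▸ hle)
    obtain ⟨Z', hZ', hlt, hmap⟩ := exists_above hpos hF hP hZ hbase htop
    refine ih Z' hlt hZ' (hbase.trans hlt.le) fun z hz => ?_
    have hfz : f z ∈ Z := by
      have hsp : Submodule.span R (Degw P) ≤ Z.comap (LinearMap.applyₗ z) :=
        Submodule.span_le.2 fun g hg => hmap g hg z hz
      exact hsp hf
    rw [show z = (LinearMap.id - f : P.carrier →ₗ[R] P.carrier) z + f z by simp]
    exact add_mem (Submodule.mem_sup_left ⟨z, rfl⟩) (hle hfz)

theorem surjective_map_of_range {M N : Type u} [AddCommGroup M] [Module R M] [AddCommGroup N] [Module R N]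
    [Module.Finite R N] (f : M →ₗ[R] N) (h : LinearMap.range f ⊔ m.toIdeal • (⊤ : Submodule R N) = ⊤) :
    Function.Surjective (LocalizedModule.map Sm f) := by
  have hle : (⊤ : Submodule R (N ⧸ LinearMap.range f)) ≤ m.toIdeal • ⊤ := by
    rintro x -
    obtain ⟨y, rfl⟩ := Submodule.mkQ_surjective _ x
    obtain ⟨a, ha, b, hb, rfl⟩ := Submodule.mem_sup.1 (h ▸ Submodule.mem_top : y ∈ _)
    rw [map_add, show (LinearMap.range f).mkQ a = 0 from (Submodule.Quotient.mk_eq_zero _).2 ha, zero_add]
    have hb' := Submodule.mem_map_of_mem (f := (LinearMap.range f).mkQ) hb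
    rw [Submodule.map_smul'', Submodule.map_top, Submodule.range_mkQ] at hb'
    exact hb'
  obtain ⟨r, hr, hrk⟩ := Submodule.exists_sub_one_mem_and_smul_eq_zero_of_fg_of_le_smul m.toIdeal _
    (IsNoetherian.noetherian _) hle
  have hrm : r ∈ Sm := fun hmem => Ideal.IsMaximal.ne_top ‹m.toIdeal.IsMaximal›
    ((Ideal.eq_top_iff_one _).2 (by simpa using sub_mem hmem hr))
  intro x
  induction x using LocalizedModule.induction_on with
  | h y s =>
    have hy := hrk (Submodule.Quotient.mk y) trivial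
    rw [← Submodule.Quotient.mk_smul, Submodule.Quotient.mk_eq_zero] at hy
    obtain ⟨z, hz⟩ := hy
    refine ⟨LocalizedModule.mk z (⟨r, hrm⟩ * s), ?_⟩
    rw [LocalizedModule.map_mk, hz, LocalizedModule.mk_eq]
    exact ⟨1, by simp [Submonoid.smul_def, mul_comm r, smul_smul]⟩

variable (m) in
theorem exists_loc_lift {M N : Type u} [AddCommGroup M] [Module R M] [Module.Finite R M] [AddCommGroup N] [Module R N]
    (x : LocalizedModule Sm M →ₗ[Am] LocalizedModule Sm N) :
    ∃ (φ : M →ₗ[R] N) (s : Sm), LocalizedModule.map Sm φ = algebraMap R Am s • x := by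
  haveI : Module.FinitePresentation R M := Module.finitePresentation_of_finite R M
  obtain ⟨φ, s, hφ⟩ := Module.FinitePresentation.exists_lift_of_isLocalizedModule Sm
    (LocalizedModule.mkLinearMap Sm N) (x.restrictScalars R ∘ₗ LocalizedModule.mkLinearMap Sm M)
  refine ⟨φ, s, LinearMap.ext fun z => ?_⟩
  induction z using LocalizedModule.induction_on with
  | h c t =>
    have h1 : LocalizedModule.mk (φ c) (1 : Sm) = (s : R) • x (LocalizedModule.mk c 1) := LinearMap.congr_fun hφ c
    have h2 : ∀ {M : Type u} [AddCommGroup M] [Module R M] (c : M),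
        LocalizedModule.mk c t = Localization.mk (1 : R) t • LocalizedModule.mk c (1 : Sm) := by
      intro M _ _ c
      rw [LocalizedModule.mk_smul_mk, one_smul, mul_one]
    rw [LocalizedModule.map_mk, LinearMap.smul_apply, h2 (φ c), h1, algebraMap_smul, h2 c, map_smul, smul_comm]

theorem bijective_of_smul {M N : Type u} [AddCommGroup M] [Module R M] [AddCommGroup N] [Module R N]
    (x : LocalizedModule Sm M →ₗ[Am] LocalizedModule Sm N) (s : Sm)
    (h : Function.Bijective (algebraMap R Am s • x : LocalizedModule Sm M →ₗ[Am] LocalizedModule Sm N)) :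
    Function.Bijective x := by
  have hu := IsLocalization.map_units Am s
  exact ⟨fun a b hab => h.1 (by rw [LinearMap.smul_apply, LinearMap.smul_apply, hab]), fun y => by
    obtain ⟨z, hz⟩ := h.2 (algebraMap R Am s • y)
    exact ⟨z, hu.smul_left_cancel.1 hz⟩⟩

include hpos hF in
/-- The endomorphism ring at the *maximal ideal of an indecomposable module is local. -/
theorem end_local (hP : Indec P) (x : LocalizedModule Sm P.carrier →ₗ[Am] LocalizedModule Sm P.carrier) :
    Function.Bijective x ∨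
      Function.Bijective (LinearMap.id - x : LocalizedModule Sm P.carrier →ₗ[Am] LocalizedModule Sm P.carrier) := by
  classical
  haveI := hP.1
  haveI : Module.Finite Am (LocalizedModule Sm P.carrier) :=
    Module.Finite.of_isLocalizedModule Sm (LocalizedModule.mkLinearMap Sm P.carrier)
  have hsb : ∀ y : LocalizedModule Sm P.carrier →ₗ[Am] LocalizedModule Sm P.carrier,
      Function.Surjective y → Function.Bijective y :=
    fun y hy => ⟨OrzechProperty.injective_of_surjective_endomorphism y hy, hy⟩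
  obtain ⟨φ, s, hφ⟩ := exists_loc_lift m x
  obtain ⟨D, hD⟩ := exists_sum_compHom P.gr P.gr (𝒜 := 𝒜) φ
  let D' := insert (0 : ℤ) D
  let Φ : ℤ → (P.carrier →ₗ[R] P.carrier) := fun d =>
    if d ∈ D then compHom P.gr P.gr (𝒜 := 𝒜) φ d else 0
  have hΦ : ∀ d, GrLC.IsGrHomDeg P.gr P.gr (Φ d) d := by
    intro d
    by_cases h : d ∈ D
    · simp only [Φ, if_pos h]; exact isGrHomDeg_compHom P.gr P.gr φ d
    · simp only [Φ, if_neg h]; exact fun _ _ _ => zero_mem _
  have hsum : φ = Φ 0 + ∑ d ∈ D'.erase 0, Φ d := by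
    rw [Finset.add_sum_erase D' Φ (Finset.mem_insert_self 0 D), ← Finset.sum_subset (Finset.subset_insert 0 D)
      (fun d _ hd => if_neg hd)]
    exact hD.trans (Finset.sum_congr rfl fun d hd => (if_pos hd).symm)
  have hrest : ∀ d ∈ D'.erase 0, Φ d ∈ Degw P := fun d hd =>
    ⟨d, hΦ d, not_bijective_of_deg_ne hpos (hΦ d) (Finset.ne_of_mem_erase hd)⟩
  by_cases h0 : Function.Bijective (Φ 0)
  · left
    refine bijective_of_smul x s ?_
    rw [← hφ]
    obtain ⟨v, hv, hvb, hvu, huv⟩ := exists_inv (hΦ 0) h0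
    have hW : -(v ∘ₗ ∑ d ∈ D'.erase 0, Φ d) ∈ Submodule.span R (Degw P) := by
      refine neg_mem ?_
      rw [show (v ∘ₗ ∑ d ∈ D'.erase 0, Φ d) = ∑ d ∈ D'.erase 0, v ∘ₗ Φ d from
        LinearMap.ext fun z => by simp [LinearMap.sum_apply]]
      exact Submodule.sum_mem _ fun d hd => Submodule.subset_span (comp_left (hrest d hd) v hv)
    have h1 : Φ 0 ∘ₗ (LinearMap.id - -(v ∘ₗ ∑ d ∈ D'.erase 0, Φ d)) = φ := by
      rw [sub_neg_eq_add, LinearMap.comp_add, ← LinearMap.comp_assoc, huv, LinearMap.id_comp, LinearMap.comp_id]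
      exact hsum.symm
    refine hsb _ (surjective_map_of_range _ (eq_top_iff.2 fun z _ => ?_))
    obtain ⟨z', rfl⟩ := h0.2 z
    obtain ⟨a, ⟨a', rfl⟩, b, hb, rfl⟩ :=
      Submodule.mem_sup.1 (range_sup_eq_top (m := m) hpos hF hP _ hW ▸ Submodule.mem_top : z' ∈ _)
    rw [map_add]
    exact Submodule.add_mem_sup ⟨a', (LinearMap.congr_fun h1 a').symm⟩ ((isStable_smul_top m P).2 (Φ 0) 0 (hΦ 0) b hb)
  · right
    have hW : φ ∈ Submodule.span R (Degw P) := by
      rw [hsum]
      exact add_mem (Submodule.subset_span ⟨0, hΦ 0, h0⟩)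
        (Submodule.sum_mem _ fun d hd => Submodule.subset_span (hrest d hd))
    obtain ⟨c, i, hi, hci⟩ := (Ideal.IsMaximal.exists_inv ‹m.toIdeal.IsMaximal› s.2)
    refine bijective_of_smul _ s ?_
    have h1 : (algebraMap R Am s • (LinearMap.id - x) : LocalizedModule Sm P.carrier →ₗ[Am] LocalizedModule Sm P.carrier) =
        LocalizedModule.map Sm ((s : R) • (LinearMap.id : P.carrier →ₗ[R] P.carrier) - φ) := by
      rw [smul_sub, ← hφ, map_sub, map_smul, algebraMap_smul]
      congr 2
      refine LinearMap.ext fun z => ?_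
      induction z using LocalizedModule.induction_on with
      | h p t => rw [LinearMap.id_apply, LocalizedModule.map_mk, LinearMap.id_apply]
    rw [h1]
    refine hsb _ (surjective_map_of_range _ (eq_top_iff.2 fun z _ => ?_))
    obtain ⟨a, ⟨a', rfl⟩, b, hb, rfl⟩ :=
      Submodule.mem_sup.1 (range_sup_eq_top (m := m) hpos hF hP _ (Submodule.smul_mem _ c hW) ▸ Submodule.mem_top : z ∈ _)
    have h2 : (LinearMap.id - c • φ : P.carrier →ₗ[R] P.carrier) a' =
        ((s : R) • (LinearMap.id : P.carrier →ₗ[R] P.carrier) - φ) (c • a') + i • a' := by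
      have h3 : a' = (c * (s : R)) • a' + i • a' := by rw [← add_smul, hci, one_smul]
      simp only [LinearMap.sub_apply, LinearMap.smul_apply, LinearMap.id_apply, map_smul]
      conv_lhs => arg 1; rw [h3]
      rw [smul_sub, smul_smul]
      abel
    rw [h2, add_assoc]
    exact Submodule.add_mem_sup ⟨c • a', rfl⟩ (add_mem (Submodule.smul_mem_smul hi trivial) hb)

end Groth.Agent.GrLib8.CanonExt
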