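import Groth.Agent.GrLib8.CanonExt.HomGr
import Groth.Agent.GrLib8.CanonExt.LocIso
import Groth.Agent.GrLib8.CanonExt.Dual
import Groth.Agent.GrLib8.CanonLocal
import Groth.Agent.GrLib8.StarDepth
import Groth.Agent.LC.GorLoc

/-!
# The canonical module of a finite graded algebra as an `Ext`
-/

set_option autoImplicit false
set_option linter.unusedSectionVars false
set_option linter.style.haveILetI false

universe u

open DirectSum IsLocalRing CategoryTheory

namespace Groth.Agent.GrLib8.CanonExt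

section Restrict

variable {R S : Type u} [CommRing R] [CommRing S] [Algebra R S]
variable {M M' : Type u} [AddCommGroup M] [Module S M] [Module R M] [IsScalarTower R S M]
  [AddCommGroup M'] [Module S M'] [Module R M'] [IsScalarTower R S M']

/-- A localization is a localization for a cofinal submonoid of the base. -/
theorem isLocalizedModule_restrict (S₀ : Submonoid R) (T : Submonoid S) (h1 : ∀ s ∈ S₀, algebraMap R S s ∈ T)
    (h2 : ∀ t ∈ T, ∃ w, ∃ s ∈ S₀, w * t = algebraMap R S s) (f : M →ₗ[S] M') [IsLocalizedModule T f] :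
    IsLocalizedModule S₀ (f.restrictScalars R) where
  map_units s := by
    have h := (Module.End.isUnit_iff _).1 (IsLocalizedModule.map_units f (⟨_, h1 s s.2⟩ : T))
    refine (Module.End.isUnit_iff _).2 ⟨fun a b hab => h.1 ?_, fun y => ?_⟩
    · simpa [Module.algebraMap_end_apply] using hab
    · obtain ⟨x, hx⟩ := h.2 y
      exact ⟨x, by simpa [Module.algebraMap_end_apply] using hx⟩
  surj y := by
    obtain ⟨⟨x, t⟩, hxt⟩ := IsLocalizedModule.surj T f y
    obtain ⟨w, s, hs, hw⟩ := h2 t t.2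
    refine ⟨⟨w • x, ⟨s, hs⟩⟩, ?_⟩
    show (s : R) • y = f (w • x)
    rw [map_smul, ← hxt, Submonoid.smul_def, smul_smul, hw, algebraMap_smul]
  exists_of_eq {x₁ x₂} h := by
    obtain ⟨t, ht⟩ := IsLocalizedModule.exists_of_eq (S := T) (f := f) h
    obtain ⟨w, s, hs, hw⟩ := h2 t t.2
    refine ⟨⟨s, hs⟩, ?_⟩
    show (s : R) • x₁ = (s : R) • x₂
    simp only [Submonoid.smul_def] at ht
    rw [← algebraMap_smul S s x₁, ← algebraMap_smul S s x₂, ← hw, mul_smul, mul_smul, ht]

end Restrict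

section Graded

variable {R S : Type u} [CommRing R] [CommRing S] [Algebra R S] [Module.Finite R S]
variable {𝒜 : ℤ → AddSubgroup R} [GradedRing 𝒜] {𝒜' : ℤ → AddSubgroup S} [GradedRing 𝒜']
variable (hf : ∀ j : ℤ, (𝒜 j).map (algebraMap R S : R →+ S) ≤ 𝒜' j)

include hf in
theorem algebraMap_mem {j : ℤ} {r : R} (hr : r ∈ 𝒜 j) : algebraMap R S r ∈ 𝒜' j := hf j ⟨r, hr, rfl⟩

include hf in
theorem gradedSMul_restrict {X : Type u} [AddCommGroup X] [Module S X] [Module R X] [IsScalarTower R S X]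
    (𝒳 : ℤ → AddSubgroup X) [SetLike.GradedSMul 𝒜' 𝒳] : SetLike.GradedSMul 𝒜 𝒳 :=
  ⟨fun {i j r x} hr hx => by
    rw [← algebraMap_smul S r x]
    exact SetLike.GradedSMul.smul_mem (algebraMap_mem hf hr) hx⟩

variable {m : HomogeneousIdeal 𝒜} [m.toIdeal.IsMaximal] {m' : HomogeneousIdeal 𝒜'} [m'.toIdeal.IsMaximal]
  (hpos : ∀ n : ℤ, n < 0 → 𝒜 n = ⊥) (hm : GrLC.IsStarLocal 𝒜 m)
  (hm'sp : m'.toIdeal = Ideal.span (⋃ j ∈ Set.Ioi (0 : ℤ), (𝒜' j : Set S)))

include hf hpos hm hm'sp in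
/-- The irrelevant ideal is the only prime over the *maximal ideal. -/
theorem eq_of_comap_le (Q : Ideal S) [Q.IsPrime] (hQ : m.toIdeal ≤ Q.comap (algebraMap R S)) : Q = m'.toIdeal := by
  classical
  haveI : SetLike.GradedSMul 𝒜 𝒜' :=
    ⟨fun {i j r x} hr hx => by
      rw [Algebra.smul_def]
      exact SetLike.mul_mem_graded (algebraMap_mem hf hr) hx⟩
  haveI : Algebra.IsIntegral R S := Algebra.IsIntegral.of_finite R S
  refine ((Ideal.IsMaximal.eq_of_le ‹m'.toIdeal.IsMaximal› (Ideal.IsPrime.ne_top inferInstance)) ?_).symm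
  rw [hm'sp, Ideal.span_le]
  intro s hs
  obtain ⟨j, hj, hs⟩ := Set.mem_iUnion₂.1 hs
  obtain ⟨p, hp, hps⟩ := Algebra.IsIntegral.isIntegral (R := R) s
  let N := p.natDegree
  have hpow : ∀ i : ℕ, s ^ i ∈ 𝒜' (i • j) := fun i => SetLike.pow_mem_graded i hs
  have h0 : ∑ i ∈ Finset.range (N + 1), p.coeff i • s ^ i = 0 := by
    have h := hps
    rw [Polynomial.eval₂_eq_sum_range' (algebraMap R S) (Nat.lt_succ_self p.natDegree) s] at h
    simpa [Algebra.smul_def, N] using h
  rw [Finset.sum_range_succ] at h0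
  have h1 := congrArg (GradedRing.proj 𝒜' (N • j)) h0
  rw [map_add, map_sum, map_zero] at h1
  simp only [GradedRing.proj_apply] at h1
  have htop : (decompose 𝒜' (p.coeff N • s ^ N) (N • j) : S) = s ^ N := by
    rw [show p.coeff N = 1 from hp, one_smul]
    exact decompose_of_mem_same 𝒜' (hpow N)
  rw [htop] at h1
  refine Ideal.IsPrime.mem_of_pow_mem inferInstance N ?_
  rw [eq_neg_of_add_eq_zero_right h1]
  refine neg_mem (Ideal.sum_mem _ fun i hi => ?_)
  rw [decompose_smul_of_mem 𝒜 𝒜' (hpow i) (p.coeff i) (N • j), Algebra.smul_def]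
  refine Q.mul_mem_right _ (hQ (irrel_le_of_isStarLocal hpos hm (mem_irrel_of_pos 𝒜 ?_ (SetLike.coe_mem _))))
  have hiN : i < N := Finset.mem_range.1 hi
  have : (0 : ℤ) < ((N : ℤ) - i) * j := mul_pos (by omega) hj
  simp only [nsmul_eq_mul]
  linarith

include hf hpos hm hm'sp in
theorem comap_eq (hF : IsField (GrLC.deg0 𝒜)) : m'.toIdeal.comap (algebraMap R S) = m.toIdeal := by
  haveI : Algebra.IsIntegral R S := Algebra.IsIntegral.of_finite R S
  have hle : m.toIdeal ≤ m'.toIdeal.comap (algebraMap R S) := by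
    intro r hr
    classical
    rw [← sum_support_decompose 𝒜 r]
    refine Submodule.sum_mem _ fun i _ => ?_
    have him := m.isHomogeneous i hr
    rcases lt_trichotomy i 0 with h | rfl | h
    · have h2 : (decompose 𝒜 r i : R) ∈ (⊥ : AddSubgroup R) := hpos i h ▸ SetLike.coe_mem (decompose 𝒜 r i)
      rw [AddSubgroup.mem_bot.1 h2]
      exact zero_mem _
    · have h0 : (⟨_, SetLike.coe_mem (decompose 𝒜 r 0)⟩ : GrLC.deg0 𝒜) = 0 := by
        by_contra hne
        obtain ⟨b, hb⟩ := hF.mul_inv_cancel hne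
        refine Ideal.IsMaximal.ne_top ‹m.toIdeal.IsMaximal› ((Ideal.eq_top_iff_one _).2 ?_)
        rw [show (1 : R) = (decompose 𝒜 r 0 : R) * b from (congrArg Subtype.val hb).symm]
        exact m.toIdeal.mul_mem_right _ him
      rw [show (decompose 𝒜 r 0 : R) = 0 from congrArg Subtype.val h0]
      exact zero_mem _
    · show algebraMap R S _ ∈ m'.toIdeal
      rw [hm'sp]
      exact Ideal.subset_span (Set.mem_biUnion h (algebraMap_mem hf (SetLike.coe_mem (decompose 𝒜 r i))))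
  exact (Ideal.IsMaximal.eq_of_le ‹m.toIdeal.IsMaximal› (Ideal.IsPrime.ne_top inferInstance) hle).symm

end Graded

section Dim

theorem ringKrullDim_le_of_finite (R S : Type u) [CommRing R] [CommRing S] [Algebra R S] [Module.Finite R S] :
    ringKrullDim S ≤ ringKrullDim R := by
  haveI : Algebra.IsIntegral R S := Algebra.IsIntegral.of_finite R S
  exact Order.krullDim_le_of_strictMono (fun P : PrimeSpectrum S => PrimeSpectrum.comap (algebraMap R S) P)
    fun P Q h => Ideal.IsIntegral.comap_lt_comap h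

end Dim

section Main

variable {R : Type u} [CommRing R] [LocCoh.IsCohenMacaulayRing R] {𝒜 : ℤ → AddSubgroup R} [GradedRing 𝒜]
variable {m : HomogeneousIdeal 𝒜} {n : ℕ} {I : GrLC.StarInjRes 𝒜 𝒜}
variable {E' : Type u} [AddCommGroup E'] [Module R E'] {𝓔 : ℤ → AddSubgroup E'} [Decomposition 𝓔]
  [SetLike.GradedSMul 𝒜 𝓔] {e : (R ⧸ m.toIdeal) →ₗ[R] E'}
variable {C : Type u} [AddCommGroup C] [Module R C] {𝒞 : ℤ → AddSubgroup C} [Decomposition 𝒞]
  [SetLike.GradedSMul 𝒜 𝒞]
variable {S : Type u} [CommRing S] [IsNoetherianRing S] [Algebra R S] [Module.Finite R S]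
  {𝒜' : ℤ → AddSubgroup S} [GradedRing 𝒜']
variable {m' : HomogeneousIdeal 𝒜'} {n' : ℕ} {I' : GrLC.StarInjRes 𝒜' 𝒜'}
variable {E'' : Type u} [AddCommGroup E''] [Module S E''] {𝓔'' : ℤ → AddSubgroup E''} [Decomposition 𝓔'']
  [SetLike.GradedSMul 𝒜' 𝓔''] {e' : (S ⧸ m'.toIdeal) →ₗ[S] E''}
variable {C' : Type u} [AddCommGroup C'] [Module S C'] [Module R C'] [IsScalarTower R S C']
  {𝒞' : ℤ → AddSubgroup C'} [Decomposition 𝒞'] [SetLike.GradedSMul 𝒜' 𝒞']

/-- `K_S = Ext^(dim R - dim S)_R(S, K_R)`. -/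
theorem nonempty_starCanonical_equiv_ext (hpos : ∀ i : ℤ, i < 0 → 𝒜 i = ⊥) (hF : IsField (GrLC.deg0 𝒜))
    (hm : GrLC.IsStarLocal 𝒜 m) (hn : ringKrullDim R = n)
    (he : GrLC.IsStarInjHull 𝒜 (GrLC.quotGr 𝒜 m) 𝓔 e) (hC : GrLC.IsStarCanonical 𝒜 𝒞 𝓔 m n I)
    (hf : ∀ j : ℤ, (𝒜 j).map (algebraMap R S : R →+ S) ≤ 𝒜' j)
    (hpos' : ∀ j : ℤ, j < 0 → 𝒜' j = ⊥) (hm' : GrLC.IsStarLocal 𝒜' m')
    (hm'sp : m'.toIdeal = Ideal.span (⋃ j ∈ Set.Ioi (0 : ℤ), (𝒜' j : Set S))) (hn' : ringKrullDim S = n')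
    (he' : GrLC.IsStarInjHull 𝒜' (GrLC.quotGr 𝒜' m') 𝓔'' e') (hC' : GrLC.IsStarCanonical 𝒜' 𝒞' 𝓔'' m' n' I') :
    Nonempty (C' ≃ₗ[R] Abelian.Ext.{u} (ModuleCat.of R S) (ModuleCat.of R C) (n - n')) := by
  classical
  haveI hmax : m.toIdeal.IsMaximal := isMaximal_of_isStarLocal hpos hm
  haveI hmax' : m'.toIdeal.IsMaximal := isMaximal_of_isStarLocal hpos' hm'
  haveI : Module.Finite R C := hC.1
  haveI : Module.Finite S C' := hC'.1
  haveI : Module.Finite R C' := Module.Finite.trans S C'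
  haveI : SetLike.GradedSMul 𝒜 𝒜' :=
    ⟨fun {i j r x} hr hx => by
      rw [Algebra.smul_def]
      exact SetLike.mul_mem_graded (algebraMap_mem hf hr) hx⟩
  haveI : SetLike.GradedSMul 𝒜 𝒞' := gradedSMul_restrict hf 𝒞'
  -- the graded `Ext`
  let X : GrLC.GMod.{u} 𝒜 := gmodPieces 𝒜 𝒞
  haveI : Module.Finite R X.carrier := inferInstanceAs (Module.Finite R C)
  obtain ⟨N, ⟨eN⟩⟩ := exists_graded_ext (𝒜 := 𝒜) 𝒜' (n - n') X
  haveI : Module.Finite R N.carrier := Module.Finite.equiv eN.symm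
  -- the localizations
  let Sm := m.toIdeal.primeCompl
  let A := Localization.AtPrime m.toIdeal
  let B := Localization.AtPrime m'.toIdeal
  have hcomap := comap_eq hf hpos hm hm'sp hF
  have h1 : ∀ s ∈ Sm, algebraMap R S s ∈ m'.toIdeal.primeCompl := fun s hs h => hs (hcomap.le h)
  have h2 : ∀ t ∈ m'.toIdeal.primeCompl, ∃ w, ∃ s ∈ Sm, w * t = algebraMap R S s := by
    intro t ht
    by_contra hcon
    push Not at hcon
    obtain ⟨Q, hQ, hQd⟩ : ∃ Q : Ideal S, Q.IsPrime ∧ Ideal.span {t} ≤ Q ∧ m.toIdeal ≤ Q.comap (algebraMap R S) := by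
      haveI : Algebra.IsIntegral R S := Algebra.IsIntegral.of_finite R S
      obtain ⟨Q, hQ, hQp, hQc⟩ := Ideal.exists_ideal_over_prime_of_isIntegral m.toIdeal (Ideal.span {t}) fun r hr => by
        by_contra hrm
        obtain ⟨w, hw⟩ := Ideal.mem_span_singleton'.1 (Ideal.mem_comap.1 hr)
        exact hcon w r hrm hw
      exact ⟨Q, hQp, hQ, hQc.ge⟩
    haveI := hQ
    exact ht (eq_of_comap_le hf hpos hm hm'sp Q hQd.2 ▸ hQd.1 (Ideal.mem_span_singleton_self t))
  letI algAB : Algebra A B := (Localization.localRingHom m.toIdeal m'.toIdeal (algebraMap R S) hcomap.symm).toAlgebra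
  haveI : IsScalarTower R A B := IsScalarTower.of_algebraMap_eq fun r => by
    rw [IsScalarTower.algebraMap_apply R S B]
    exact (Localization.localRingHom_to_map m.toIdeal m'.toIdeal (algebraMap R S) hcomap.symm r).symm
  let K' := LocalizedModule m'.toIdeal.primeCompl C'
  letI : Module A K' := Module.compHom K' (algebraMap A B)
  haveI : IsScalarTower A B K' := IsScalarTower.of_algebraMap_smul fun _ _ => rfl
  haveI : IsScalarTower R A K' := IsScalarTower.of_algebraMap_smul fun r x => by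
    show algebraMap A B (algebraMap R A r) • x = r • x
    rw [← IsScalarTower.algebraMap_apply R A B, IsScalarTower.algebraMap_apply R S B, algebraMap_smul, algebraMap_smul]
  haveI := isLocalizedModule_restrict Sm m'.toIdeal.primeCompl h1 h2 (LocalizedModule.mkLinearMap m'.toIdeal.primeCompl C')
  haveI := isLocalizedModule_restrict Sm m'.toIdeal.primeCompl h1 h2 (Algebra.linearMap S B)
  let uC : LocalizedModule Sm C' ≃ₗ[A] K' := LinearEquiv.extendScalarsOfIsLocalization Sm A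
    (IsLocalizedModule.iso Sm ((LocalizedModule.mkLinearMap m'.toIdeal.primeCompl C').restrictScalars R))
  let uS : LocalizedModule Sm S ≃ₗ[A] B := LinearEquiv.extendScalarsOfIsLocalization Sm A
    (IsLocalizedModule.iso Sm ((Algebra.linearMap S B).restrictScalars R))
  haveI : Module.Finite A B := Module.Finite.of_isLocalizedModule Sm ((Algebra.linearMap S B).restrictScalars R)
  haveI : IsNoetherianRing B := IsLocalization.isNoetherianRing m'.toIdeal.primeCompl B inferInstance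
  haveI : LocCoh.IsCohenMacaulayLocalRing A :=
    LocCoh.IsCohenMacaulayRing.isCohenMacaulayLocalRing_localization (R := R) m.toIdeal
  haveI := Canon.finite_loc hC
  haveI := Canon.finite_loc hC'
  obtain ⟨E₀, _, _, f₀, eK, hf₀⟩ := Canon.exists_local he hC
  obtain ⟨E₁, _, _, f₁, eK', hf₁⟩ := Canon.exists_local he' hC'
  have hle : n' ≤ n := by
    have h := ringKrullDim_le_of_finite R S
    rw [hn, hn'] at h
    exact_mod_cast h
  obtain ⟨θ⟩ := nonempty_canon_equiv_ext A B (Canon.ringKrullDim_atPrime hpos hm hn) hf₀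
    (LocalizedModule Sm C) eK K' hf₁ hle eK'
  obtain ⟨eX⟩ := LC.exists_extLoc Sm C (n - n') S
  let uN : LocalizedModule Sm N.carrier ≃ₗ[A]
      LocalizedModule Sm (Abelian.Ext.{u} (ModuleCat.of R S) (ModuleCat.of R C) (n - n')) :=
    LinearEquiv.ofBijective (LocalizedModule.map Sm eN.toLinearMap)
      ⟨LocalizedModule.map_injective Sm _ eN.injective, LocalizedModule.map_surjective Sm _ eN.surjective⟩
  let η : LocalizedModule Sm C' ≃ₗ[A] LocalizedModule Sm N.carrier :=
    ((uC.trans θ).trans (LC.extCongr uS.symm.toModuleIso (Iso.refl (ModuleCat.of A (LocalizedModule Sm C))) (n - n'))).trans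
      (eX.symm.trans uN.symm)
  let P : GrLC.GMod.{u} 𝒜 := gmodPieces 𝒜 𝒞'
  haveI : Module.Finite R P.carrier := inferInstanceAs (Module.Finite R C')
  obtain ⟨Θ⟩ := nonempty_equiv_of_loc hpos hF hm _ P N rfl η
  exact ⟨Θ.trans eN⟩

end Main

end Groth.Agent.GrLib8.CanonExt
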